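import Mathlib.GroupTheory.Subgroup.Simple
import Mathlib.Algebra.Ring.Subring.Basic
import Mathlib.Algebra.GroupWithZero.Hom
import Mathlib.GroupTheory.PGroup
import Mathlib.Tactic.Group

/-!
# The commutative ring spanned by an irreducible abelian group of automorphisms
-/

set_option autoImplicit false

namespace Cfsg.Lib.Local.AppC.FreeField

/-- An abelian group acting irreducibly on an abelian group gives a field structure on it. -/
theorem exists_ring {G : Type*} [Group G] (P A : Subgroup G)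
    (hPc : IsMulCommutative ↥P) (hA : IsMulCommutative ↥A)
    (hAP : A ≤ Subgroup.normalizer (P : Set G))
    (hirr : ∀ W : Subgroup G, W ≤ P → (∀ a ∈ A, ∀ x ∈ W, a * x * a⁻¹ ∈ W) → W = ⊥ ∨ W = P)
    (e : G) (he : e ∈ P) (he1 : e ≠ 1) :
    letI : CommGroup ↥P := { (inferInstance : Group ↥P) with mul_comm := fun a b => hPc.is_comm.comm a b }
    ∃ K : Subring (AddMonoid.End (Additive ↥P)), (∀ j ∈ K, ∀ k ∈ K, j * k = k * j) ∧
      Function.Bijective (fun k : K => (k : AddMonoid.End (Additive ↥P)) (Additive.ofMul ⟨e, he⟩)) ∧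
      (∀ k ∈ K, k ≠ 0 → Function.Injective k) ∧
      ∀ a ∈ A, ∃ k ∈ K, ∀ x : ↥P,
        ((Additive.toMul (k (Additive.ofMul x)) : ↥P) : G) = a * (x : G) * a⁻¹ := by
  letI : CommGroup ↥P := { (inferInstance : Group ↥P) with mul_comm := fun a b => hPc.is_comm.comm a b }
  have hN : ∀ a ∈ A, ∀ x ∈ P, a * x * a⁻¹ ∈ P := fun a ha x hx =>
    (Subgroup.mem_normalizer_iff.1 (hAP ha) x).1 hx
  let C : ↥A → AddMonoid.End (Additive ↥P) := fun a => MonoidHom.toAdditive
    { toFun := fun x => (⟨(a : G) * (x : G) * (a : G)⁻¹, hN a a.2 x x.2⟩ : ↥P)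
      map_one' := Subtype.ext (by simp)
      map_mul' := fun x z => Subtype.ext (by simp [mul_assoc]) }
  have hC : ∀ (a : ↥A) (x : ↥P), ((Additive.toMul (C a (Additive.ofMul x)) : ↥P) : G) = a * x * (a : G)⁻¹ :=
    fun a x => rfl
  have hcomm : ∀ x ∈ Set.range C, ∀ z ∈ Set.range C, x * z = z * x := by
    rintro _ ⟨a, rfl⟩ _ ⟨b, rfl⟩
    refine AddMonoidHom.ext fun v => Additive.toMul.injective (Subtype.ext ?_)
    show (a : G) * ((b : G) * (Additive.toMul v : ↥P) * (b : G)⁻¹) * (a : G)⁻¹ =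
      (b : G) * ((a : G) * (Additive.toMul v : ↥P) * (a : G)⁻¹) * (b : G)⁻¹
    have hab : (a : G) * b = b * a := congrArg Subtype.val (hA.is_comm.comm a b)
    calc _ = ((a : G) * b) * (Additive.toMul v : ↥P) * ((a : G) * b)⁻¹ := by group
      _ = _ := by rw [hab]; group
  set K := Subring.closure (Set.range C) with hK
  haveI hKc := Subring.isMulCommutative_closure hcomm
  have hKcomm : ∀ j ∈ K, ∀ k ∈ K, j * k = k * j := fun j hj k hk =>
    congrArg Subtype.val (hKc.is_comm.comm ⟨j, hj⟩ ⟨k, hk⟩)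
  have hCK : ∀ a, C a ∈ K := fun a => Subring.subset_closure ⟨a, rfl⟩
  -- an invariant additive subgroup is trivial or everything
  have hW : ∀ W : AddSubgroup (Additive ↥P), (∀ k ∈ K, ∀ v ∈ W, k v ∈ W) → W = ⊥ ∨ W = ⊤ := by
    intro W hinv
    rcases hirr ((AddSubgroup.toSubgroup' W).map P.subtype) (Subgroup.map_subtype_le _) (by
      rintro a ha _ ⟨x, hx, rfl⟩
      exact ⟨Additive.toMul (C ⟨a, ha⟩ (Additive.ofMul x)), hinv _ (hCK _) _ hx, rfl⟩) with h | h
    · refine Or.inl (eq_bot_iff.2 fun v hv => ?_)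
      have h1 : ((Additive.toMul v : ↥P) : G) ∈ (⊥ : Subgroup G) := h ▸ ⟨Additive.toMul v, hv, rfl⟩
      exact AddSubgroup.mem_bot.2 (Additive.toMul.injective (Subtype.ext (Subgroup.mem_bot.1 h1)))
    · refine Or.inr (eq_top_iff.2 fun v _ => ?_)
      obtain ⟨x, hx, hxe⟩ := h.ge (Additive.toMul v).2
      obtain rfl : x = Additive.toMul v := Subtype.ext hxe
      exact hx
  set v₀ : Additive ↥P := Additive.ofMul ⟨e, he⟩ with hv₀
  have hv₀0 : v₀ ≠ 0 := fun h =>
    he1 (congrArg (fun v : Additive ↥P => ((Additive.toMul v : ↥P) : G)) h)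
  have hinj : ∀ k ∈ K, k ≠ 0 → Function.Injective k := by
    intro k hk hk0
    have hkc : ∀ j ∈ K, ∀ v, k v = 0 → k (j v) = 0 := fun j hj v hv => by
      show (k * j) v = 0
      rw [hKcomm k hk j hj]
      show j (k v) = 0
      rw [hv, map_zero]
    rcases hW (AddMonoidHom.ker k) (fun j hj v hv => hkc j hj v hv) with h | h
    · exact (AddMonoidHom.ker_eq_bot_iff _).1 h
    · refine absurd (AddMonoidHom.ext fun v => ?_) hk0
      exact AddMonoidHom.mem_ker.1 (h.ge (AddSubgroup.mem_top v))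
  refine ⟨K, hKcomm, ⟨?_, ?_⟩, hinj, fun a ha => ⟨C ⟨a, ha⟩, hCK _, fun x => hC _ x⟩⟩
  · intro j k hjk
    by_contra hne
    have h0 : (j : AddMonoid.End (Additive ↥P)) - k ≠ 0 := fun h => hne (Subtype.ext (sub_eq_zero.1 h))
    refine hv₀0 (hinj _ (K.sub_mem j.2 k.2) h0 ?_)
    rw [map_zero]
    show (j : AddMonoid.End (Additive ↥P)) v₀ - (k : AddMonoid.End (Additive ↥P)) v₀ = 0
    exact sub_eq_zero.2 hjk
  · let ev : K →+ Additive ↥P :=
      { toFun := fun k => (k : AddMonoid.End (Additive ↥P)) v₀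
        map_zero' := rfl
        map_add' := fun _ _ => rfl }
    rcases hW ev.range (by rintro j hj _ ⟨k, rfl⟩; exact ⟨⟨j, hj⟩ * k, rfl⟩) with h | h
    · exact absurd (AddSubgroup.mem_bot.1 (h ▸ (⟨1, rfl⟩ : v₀ ∈ ev.range))) hv₀0
    · exact fun v => h.ge (AddSubgroup.mem_top v)

end Cfsg.Lib.Local.AppC.FreeField
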