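import Cfsg.Agent.Lib.Local.AppC.Config

/-!
The collapse lemma: an equation `h g h' = g'` with `h, h' ∈ P U` and `g, g' ∈ Q P₀ \ P₀` that
survives all Frobenius twists puts `g'` into `P₀ g P₀`.
-/

set_option autoImplicit false
set_option linter.style.haveILetI false

namespace Cfsg.Lib.Local.AppC.Cfg

variable {p q : ℕ} [hp : Fact p.Prime] {G : Type*} [Group G] [Finite G] {F : Type*} [Field F] [Fintype F]
  [CharP F p] (c : Cfg p q G F)

include c

/-- The elements of `P U` conjugated into `P U` by `g`. -/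
def Dg (g : G) : Subgroup G := c.H ⊓ c.H.comap (MulAut.conj g⁻¹).toMonoidHom

omit hp [Finite G] [CharP F p] in
theorem mem_Dg {g h : G} : h ∈ c.Dg g ↔ h ∈ c.H ∧ g⁻¹ * h * g ∈ c.H := by
  simp [Dg, Subgroup.mem_inf, Subgroup.mem_comap]

/-- Equality up to multiplication by powers of `s` on both sides. -/
def Sim (g g' : G) : Prop := ∃ i j : ℤ, g' = c.s i * g * c.s j

omit hp [Finite G] [CharP F p] in
theorem Sim.symm {g g' : G} (h : c.Sim g g') : c.Sim g' g := by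
  obtain ⟨i, j, rfl⟩ := h
  exact ⟨-i, -j, by simp only [s_neg]; group⟩

omit hp [Finite G] [CharP F p] in
theorem Sim.trans {g g' g'' : G} (h : c.Sim g g') (h' : c.Sim g' g'') : c.Sim g g'' := by
  obtain ⟨i, j, rfl⟩ := h
  obtain ⟨i', j', rfl⟩ := h'
  exact ⟨i' + i, j + j', by simp only [s_add]; group⟩

/-- `h g h' = g'` together with all its Frobenius twists. -/
def Twin (g g' : G) (v : F) (u : c.U) (v' : F) (u' : c.U) : Prop :=
  ∀ i : ℕ, c.el (c.Φ i v) (u ^ p ^ i) * g * c.el (c.Φ i v') (u' ^ p ^ i) = g'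

omit [Finite G] in
theorem Twin.symm {g g' : G} {v v' : F} {u u' : c.U} (h : c.Twin g g' v u v' u') :
    c.Twin g' g (-(v / c.ψ u)) u⁻¹ (-(v' / c.ψ u')) u'⁻¹ := fun i => by
  simp only [map_neg, map_div₀, c.Φ_ψ, inv_pow, ← c.el_inv, ← h i]
  group

omit [Finite G] in
theorem el_pow_mul (i : ℕ) (v v' : F) (u u' : c.U) :
    c.el (c.Φ i v) (u ^ p ^ i) * c.el (c.Φ i v') (u' ^ p ^ i) =
      c.el (c.Φ i (v + c.ψ u * v')) ((u * u') ^ p ^ i) := by
  rw [c.el_mul, map_add, map_mul, c.Φ_ψ, Commute.mul_pow (c.U_comm u u')]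

omit [Finite G] in
theorem s_el_twist (i : ℕ) (z : ℤ) : c.s z = c.el (c.Φ i (z : F)) ((1 : c.U) ^ p ^ i) := by
  rw [map_intCast, one_pow, c.s_el]

/-- Absorb powers of `s`. -/
theorem Twin.absorb {g g' : G} {v v' : F} {u u' : c.U} (h : c.Twin g g' v u v' u') (a b a' b' : ℤ) :
    c.Twin (c.s a * g * c.s b) (c.s a' * g' * c.s b')
      ((a' : F) + v + c.ψ u * ((-a : ℤ) : F)) u (((-b : ℤ) : F) + v' + c.ψ u' * (b' : F)) u' := fun i => by
  have hl : c.el (c.Φ i ((a' : F) + v + c.ψ u * ((-a : ℤ) : F))) (u ^ p ^ i) =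
      c.s a' * c.el (c.Φ i v) (u ^ p ^ i) * (c.s a)⁻¹ := by
    rw [← c.s_neg, c.s_el_twist i a', c.s_el_twist i (-a), c.el_pow_mul, c.el_pow_mul]
    simp [add_assoc]
  have hr : c.el (c.Φ i (((-b : ℤ) : F) + v' + c.ψ u' * (b' : F))) (u' ^ p ^ i) =
      (c.s b)⁻¹ * c.el (c.Φ i v') (u' ^ p ^ i) * c.s b' := by
    rw [← c.s_neg, c.s_el_twist i (-b), c.s_el_twist i b', c.el_pow_mul, c.el_pow_mul]
    simp [add_assoc]
  rw [hl, hr, ← h i]
  group

/-- No mixing of translations and other elements. -/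
theorem no_mix {x : c.A} {z : ℤ} (hx : x ≠ 0) {w : F} (hw : c.tr w ∈ c.Dg (c.em x z)) {a : F} {m : c.U}
    (hd : c.el a m ∈ c.Dg (c.em x z)) (hm : m ≠ 1) : w = 0 := by
  by_contra hw0
  let V : AddSubgroup F :=
    { carrier := {v | c.tr v ∈ c.Dg (c.em x z)}
      zero_mem' := by simp [one_mem]
      add_mem' := fun {v v'} hv hv' => by
        show c.tr (v + v') ∈ c.Dg _
        rw [c.tr_add]; exact mul_mem hv hv'
      neg_mem' := fun {v} hv => by
        show c.tr (-v) ∈ c.Dg _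
        rw [c.tr_neg]; exact inv_mem hv }
  have hst : ∀ v ∈ V, c.ψ m * v ∈ V := fun v hv => by
    show c.tr (c.ψ m * v) ∈ c.Dg _
    have := mul_mem (mul_mem hd hv) (inv_mem hd)
    convert this using 1
    simp only [c.tr_el, c.el_inv, c.el_mul, mul_one, mul_inv_cancel]
    congr 1
    field_simp [c.ψ_ne m]
    ring
  have h1 : c.tr 1 ∈ c.Dg (c.em x z) := c.eq_top_of_stable V hm hst hw hw0 1
  have h2 := (c.mem_Dg.mp h1).2
  have hinv : (c.em x z)⁻¹ = c.em (-c.T (-z) x) (-z) := by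
    refine inv_eq_of_mul_eq_one_right ?_
    rw [c.em_mul, map_neg, c.T_T, add_neg_cancel, c.T_zero, add_neg_cancel]
    simp [em]
  rw [show c.tr 1 = c.em 0 1 by simp [em, s], hinv, c.em_mul, c.em_mul] at h2
  have h3 := c.em_mem_H h2
  rw [map_zero, add_zero, show -z + (1 : ℤ) = -z + 1 from rfl, ← c.T_T (-z) 1, neg_add_eq_zero,
    ← sub_eq_zero, ← map_sub] at h3
  have h4 : c.D 1 x = 0 := by
    have := congrArg (c.T z) h3
    rwa [c.T_T, add_neg_cancel, c.T_zero, map_zero] at this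
  exact hx (c.D_inj (by simp) h4)

omit hp [Finite G] [CharP F p] in
theorem U_Dg (l : ℤ) (u : c.U) : (u : G) ∈ c.Dg (c.t l) := by
  refine c.mem_Dg.mpr ⟨c.U_mem u, ?_⟩
  rw [← c.t_neg, show c.t (-l) * u * c.t l = c.σ (-l) u by rw [c.coe_σ, c.t_neg, inv_inv]]
  exact c.U_mem _

/-- `P U ∩ (P U)^(t^l) = U`. -/
theorem t_inter {l : ℤ} (hl : (l : F) ≠ 0) {a : F} {m : c.U} (h : c.el a m ∈ c.Dg (c.t l)) : a = 0 := by
  obtain ⟨u, hu⟩ := c.exists_ne_one
  have hU := c.U_Dg l u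
  have hc : c.tr (a * (1 - c.ψ u)) ∈ c.Dg (c.t l) := by
    have := mul_mem (mul_mem (mul_mem h hU) (inv_mem h)) (inv_mem hU)
    convert this using 1
    simp only [c.coe_U, c.tr_el, c.el_inv, c.el_mul, map_mul, map_one]
    congr 1
    · simp only [map_inv₀, zero_div, neg_zero, mul_zero, add_zero]
      field_simp [c.ψ_ne u, c.ψ_ne m]
      ring
    · rw [c.U_comm m u]; group
  rw [c.t_eq] at hc hU
  have := c.no_mix (c.D_yA_ne hl) hc (a := 0) (m := u) (c.coe_U u ▸ hU) hu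
  exact (mul_eq_zero.mp this).resolve_right fun e => hu (c.ψ_inj (by
    rw [map_one]; exact (sub_eq_zero.mp e).symm))

/-- Only powers of `t` conjugate a nontrivial element of `U` into `U`. -/
theorem ti {x : c.A} {z : ℤ} {u u' : c.U} (hu : u ≠ 1)
    (h : c.em x z * u * (c.em x z)⁻¹ = u') : c.em x z = c.t z := by
  set x' : c.A := x - c.D z c.yA
  have hdec : c.em x z = c.qv x' * c.t z := by
    rw [c.t_eq, show c.qv x' = c.em x' 0 by simp [em], c.em_mul, c.T_zero, zero_add, sub_add_cancel]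
  suffices hx' : x' = 0 by rw [hdec, hx', c.qv_zero, one_mul]
  set w : c.U := c.σ z u
  have hw : w ≠ 1 := fun e => hu (c.σ_inj z (e.trans (map_one _).symm))
  have hxw : c.qv x' * w * (c.qv x')⁻¹ = u' := by
    rw [← h, hdec, c.coe_σ]; group
  haveI := c.finite_U
  have hpow : ∀ a b : c.U, orderOf a = orderOf b → ∃ k : ℕ, b = a ^ k := fun a b hab => by
    have hprim : IsPrimitiveRoot (c.ψ a) (orderOf a) := by
      rw [← orderOf_injective c.ψ c.ψ_inj a]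
      exact IsPrimitiveRoot.orderOf _
    haveI : NeZero (orderOf a) := ⟨(orderOf_pos a).ne'⟩
    obtain ⟨k, -, hk⟩ := hprim.eq_pow_of_pow_eq_one (ξ := c.ψ b)
      (by rw [← map_pow, hab, pow_orderOf_eq_one, map_one])
    exact ⟨k, c.ψ_inj (by rw [map_pow, hk])⟩
  have hconj : ∀ (g : G) (a b : c.U), g * a * g⁻¹ = b → orderOf a = orderOf b := fun g a b hab => by
    rw [← Subgroup.orderOf_coe, ← Subgroup.orderOf_coe, ← hab]
    exact (MulEquiv.orderOf_eq (MulAut.conj g) (a : G)).symm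
  obtain ⟨k, hk⟩ := hpow w u' (hconj _ w u' hxw)
  set w₁ : c.U := c.σ (-1) w
  obtain ⟨i, hi⟩ := hpow w w₁ (hconj ((c.t 1)⁻¹) w w₁ (by
    rw [show (w₁ : G) = c.t (-1) * w * (c.t (-1))⁻¹ from c.coe_σ (-1) w, c.t_neg]))
  have hxw₁ : c.qv x' * w₁ * (c.qv x')⁻¹ = (w₁ ^ k : c.U) := by
    rw [hi, ← pow_mul, mul_comm, pow_mul, ← hk, Subgroup.coe_pow, Subgroup.coe_pow, ← hxw, conj_pow]
  set x₁ : c.A := c.T 1 x'
  have hx₁w : c.qv x₁ * w * (c.qv x₁)⁻¹ = (w ^ k : c.U) := by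
    have ht : c.t 1 * c.qv x' * (c.t 1)⁻¹ = c.qv x₁ := by
      rw [mul_inv_eq_iff_eq_mul, c.t_eq, show c.qv x' = c.em x' 0 by simp [em],
        show c.qv x₁ = c.em x₁ 0 by simp [em], c.em_mul, c.em_mul, c.T_zero]
      simp only [x₁, add_zero, zero_add, add_comm]
    have hσ : c.σ 1 w₁ = w := by simp [w₁, σ_σ]
    have h2 := congrArg (fun g => c.t 1 * g * (c.t 1)⁻¹) hxw₁
    have hr : c.t 1 * ((w₁ ^ k : c.U) : G) * (c.t 1)⁻¹ = ((w ^ k : c.U) : G) := by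
      rw [← c.coe_σ, map_pow, hσ]
    simp only [hr] at h2
    rw [← h2, ← ht, ← hσ, c.coe_σ]
    group
  -- `x'` conjugates a nontrivial translation to a translation
  have htr : c.qv x' * c.tr (c.ψ w - 1) * (c.qv x')⁻¹ = c.tr (c.ψ (w ^ k) - 1) := by
    have e1 : ∀ a : c.U, c.tr (c.ψ a - 1) = (c.s 1)⁻¹ * a * c.s 1 * (a : G)⁻¹ := fun a => by
      rw [sub_eq_neg_add, c.tr_add, c.tr_neg, s, Int.cast_one, mul_assoc (c.tr 1)⁻¹, mul_assoc (c.tr 1)⁻¹,
        c.conj_tr, mul_one]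
    have hs : c.s 1 * c.qv x' = c.qv x₁ * c.s 1 := by
      simp only [x₁, qv_T]; group
    rw [e1, e1]
    calc c.qv x' * ((c.s 1)⁻¹ * w * c.s 1 * (w : G)⁻¹) * (c.qv x')⁻¹
        = (c.s 1)⁻¹ * (c.qv x₁ * w * (c.qv x₁)⁻¹) * c.s 1 * (c.qv x' * w * (c.qv x')⁻¹)⁻¹ := by
          rw [show c.qv x₁ = c.s 1 * c.qv x' * (c.s 1)⁻¹ by rw [hs, mul_inv_cancel_right]]
          group
      _ = _ := by rw [hx₁w, hxw, hk]
  let V : AddSubgroup F :=
    { carrier := {v | ∃ v' : F, c.qv x' * c.tr v * (c.qv x')⁻¹ = c.tr v'}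
      zero_mem' := ⟨0, by simp⟩
      add_mem' := fun {a b} ⟨a', ha⟩ ⟨b', hb⟩ => ⟨a' + b', by
        rw [c.tr_add, c.tr_add, ← ha, ← hb]; group⟩
      neg_mem' := fun {a} ⟨a', ha⟩ => ⟨-a', by rw [c.tr_neg, c.tr_neg, ← ha]; group⟩ }
  have hst : ∀ v ∈ V, c.ψ w * v ∈ V := fun v ⟨v', hv⟩ => ⟨c.ψ u' * v', by
    rw [← c.conj_tr, ← c.conj_tr, ← hv, ← hxw]; group⟩
  have hne : c.ψ w - 1 ≠ 0 := sub_ne_zero.mpr fun e => hw (c.ψ_inj (by rw [e, map_one]))
  obtain ⟨v', hv'⟩ := c.eq_top_of_stable V hw hst ⟨_, htr⟩ hne 1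
  refine c.D_inj (z := 1) (by simp) (c.qv_eq_tr (v := v' - 1) ?_).1
  rw [D_apply, sub_eq_add_neg, qv_add, qv_neg, qv_T, sub_eq_add_neg, c.tr_add, c.tr_neg, ← hv', s, Int.cast_one]
  group

theorem eq_intCast_of_fix {v : F} (h : c.Φ 1 v = v) : ∃ z : ℤ, v = (z : F) :=
  exists_int_of_pow (p := p) (by rwa [c.Φ_apply, pow_one] at h)

theorem commute_Dg {x : c.A} {z : ℤ} (hx : x ≠ 0) {a a' : F} {m m' : c.U}
    (hd : c.el a m ∈ c.Dg (c.em x z)) (hd' : c.el a' m' ∈ c.Dg (c.em x z)) (hm : m ≠ 1) :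
    a + c.ψ m * a' = a' + c.ψ m' * a := by
  have h : c.tr (a + c.ψ m * a' - (a' + c.ψ m' * a)) ∈ c.Dg (c.em x z) := by
    have := mul_mem (mul_mem hd hd') (inv_mem (mul_mem hd' hd))
    convert this using 1
    simp only [c.tr_el, c.el_inv, c.el_mul, c.U_comm m' m, mul_inv_cancel]
    congr 1
    have h0 := c.ψ_ne (m * m')
    field_simp [h0]
    ring_nf
  exact sub_eq_zero.mp (c.no_mix hx h hd hm)

/-- The translation case and the torus case. -/
theorem core {g : G} {xg : c.A} {zg : ℤ} (hg : g = c.em xg zg) {x : c.A} {z : ℤ} (hx : x ≠ 0)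
    {v v' : F} {u u' : c.U} (h : c.Twin g (c.em x z) v u v' u') :
    c.Sim g (c.em x z) ∨ ∃ a b l : ℤ, c.em x z = c.s a * c.t l * c.s b := by
  have e0 : c.el v u * g * c.el v' u' = c.em x z := by simpa [Φ_apply] using h 0
  have hel : ∀ i : ℕ, ∀ a b : F, ∀ m n : c.U, c.el (c.Φ i a) (m ^ p ^ i) * (c.el (c.Φ i b) (n ^ p ^ i))⁻¹ =
      c.el (c.Φ i (a + c.ψ m * -(b / c.ψ n))) ((m * n⁻¹) ^ p ^ i) := fun i a b m n => by
    rw [← c.el_pow_mul, c.el_inv, map_neg, map_div₀, c.Φ_ψ, inv_pow]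
  have hel' : ∀ i : ℕ, ∀ a b : F, ∀ m n : c.U, (c.el (c.Φ i a) (m ^ p ^ i))⁻¹ * c.el (c.Φ i b) (n ^ p ^ i) =
      c.el (c.Φ i (-(a / c.ψ m) + c.ψ m⁻¹ * b)) ((m⁻¹ * n) ^ p ^ i) := fun i a b m n => by
    rw [← c.el_pow_mul, c.el_inv, map_neg, map_div₀, c.Φ_ψ, inv_pow]
  -- differences of two twists
  have hdiff : ∀ i j : ℕ, c.el (c.Φ i v) (u ^ p ^ i) * (c.el (c.Φ j v) (u ^ p ^ j))⁻¹ ∈ c.Dg (c.em x z) ∧
      (c.em x z)⁻¹ * (c.el (c.Φ i v) (u ^ p ^ i) * (c.el (c.Φ j v) (u ^ p ^ j))⁻¹) * c.em x z =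
        (c.el (c.Φ i v') (u' ^ p ^ i))⁻¹ * c.el (c.Φ j v') (u' ^ p ^ j) := by
    intro i j
    have key : (c.em x z)⁻¹ * (c.el (c.Φ i v) (u ^ p ^ i) * (c.el (c.Φ j v) (u ^ p ^ j))⁻¹) * c.em x z =
        (c.el (c.Φ i v') (u' ^ p ^ i))⁻¹ * c.el (c.Φ j v') (u' ^ p ^ j) := by
      conv_lhs => enter [1, 1]; rw [← h i]
      conv_lhs => enter [2]; rw [← h j]
      group
    exact ⟨c.mem_Dg.mpr ⟨mul_mem (c.el_mem _ _) (inv_mem (c.el_mem _ _)),
      key ▸ mul_mem (inv_mem (c.el_mem _ _)) (c.el_mem _ _)⟩, key⟩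
  by_cases hu : u = 1
  · subst hu
    left
    let V : AddSubgroup F :=
      { carrier := {w | c.tr w ∈ c.Dg (c.em x z)}
        zero_mem' := by simp [one_mem]
        add_mem' := fun {a b} ha hb => by
          show c.tr (a + b) ∈ c.Dg _
          rw [c.tr_add]; exact mul_mem ha hb
        neg_mem' := fun {a} ha => by
          show c.tr (-a) ∈ c.Dg _
          rw [c.tr_neg]; exact inv_mem ha }
    have hV : ∀ i : ℕ, c.Φ i v - v ∈ V := fun i => by
      show c.tr (c.Φ i v - v) ∈ c.Dg _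
      have := (hdiff i 0).1
      simp only [one_pow, ← c.tr_el, ← c.tr_neg, ← c.tr_add] at this
      simpa [Φ_apply, sub_eq_add_neg] using this
    -- a point of the prime field congruent to `v`
    set Sm : F := ∑ i ∈ Finset.range q, c.Φ i v
    have hSm : c.Φ 1 Sm = Sm := by
      have hsucc : ∀ i, c.Φ 1 (c.Φ i v) = c.Φ (i + 1) v := fun i => by
        simp only [Φ_apply, ← pow_mul, pow_succ, pow_zero, one_mul]
      rw [map_sum, Finset.sum_congr rfl fun i _ => hsucc i]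
      have h1 := Finset.sum_range_succ' (fun i => c.Φ i v) q
      rw [Finset.sum_range_succ] at h1
      have hq' : c.Φ q v = c.Φ 0 v := by
        rw [Φ_apply, Φ_apply, ← c.card_F, FiniteField.pow_card, pow_zero, pow_one]
      rw [hq'] at h1
      exact (add_right_cancel h1).symm
    have hSV : Sm - (q : ℕ) • v ∈ V := by
      have : ∑ i ∈ Finset.range q, (c.Φ i v - v) ∈ V := V.sum_mem fun i _ => hV i
      rwa [Finset.sum_sub_distrib, Finset.sum_const, Finset.card_range] at this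
    have hqp : (q : ZMod p) ≠ 0 := fun e =>
      c.ne ((Nat.prime_dvd_prime_iff_eq hp.out c.hq).mp ((ZMod.natCast_eq_zero_iff _ _).mp e)).symm
    set r : ℕ := ((q : ZMod p)⁻¹).val
    have hr : (r : F) * (q : F) = 1 := by
      have := congrArg (ZMod.castHom (dvd_refl p) F) (inv_mul_cancel₀ hqp)
      rw [map_mul, map_natCast, map_one, ← ZMod.natCast_zmod_val (q : ZMod p)⁻¹, map_natCast] at this
      exact this
    obtain ⟨k, hk⟩ := c.eq_intCast_of_fix (v := (r : F) * Sm) (by rw [map_mul, map_natCast, hSm])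
    have hw : v - (k : F) ∈ V := by
      have := V.neg_mem (V.nsmul_mem hSV r)
      rw [nsmul_eq_mul, mul_sub, nsmul_eq_mul, ← mul_assoc, hr, one_mul, neg_sub, hk] at this
      exact this
    -- `em x z = s^k g h'`
    have hd := V.neg_mem hw
    obtain ⟨b, n, hbn⟩ := (c.mem_Dg.mp hd).2
    have he : c.s k * g * (c.el v' u') = c.em x z * c.el b n := by
      rw [← hbn, ← e0, ← c.tr_el v]
      have : c.tr (-(v - (k : F))) * c.tr v = c.s k := by rw [← c.tr_add, s]; congr 1; ring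
      rw [← this]
      group
    have hH : g⁻¹ * (c.s k)⁻¹ * c.em x z ∈ c.H := by
      rw [show g⁻¹ * (c.s k)⁻¹ * c.em x z = c.el v' u' * (c.el b n)⁻¹ by
        rw [eq_mul_inv_iff_mul_eq, mul_assoc, ← he]; group]
      exact mul_mem (c.el_mem _ _) (inv_mem (c.el_mem _ _))
    have hinv : g⁻¹ = c.em (-c.T (-zg) xg) (-zg) := by
      refine inv_eq_of_mul_eq_one_right ?_
      rw [hg, c.em_mul, map_neg, c.T_T, add_neg_cancel, c.T_zero, add_neg_cancel]
      simp [em]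
    have hR : g⁻¹ * (c.s k)⁻¹ * c.em x z = c.em (-c.T (-zg) xg + c.T (-zg) 0 + c.T (-zg + -k) x) (-zg + -k + z) := by
      rw [← c.s_neg, c.s_eq, hinv, c.em_mul, c.em_mul]
    rw [hR] at hH
    refine ⟨k, -zg + -k + z, ?_⟩
    rw [c.s_eq (-zg + -k + z), ← c.em_mem_H hH, ← hR]
    group
  · right
    set a : F := c.Φ 1 v + c.ψ (u ^ p ^ 1) * -(v / c.ψ u)
    set m : c.U := u ^ p ^ 1 * u⁻¹
    have hd1 : c.el a m = c.el (c.Φ 1 v) (u ^ p ^ 1) * (c.el v u)⁻¹ := by rw [c.el_inv, c.el_mul]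
    have hd1D : c.el a m ∈ c.Dg (c.em x z) := by
      have := (hdiff 1 0).1
      rw [hd1]; simpa [Φ_apply] using this
    have hd2 : c.el (c.Φ 1 a) (m ^ p ^ 1) = c.el (c.Φ 2 v) (u ^ p ^ 2) * (c.el (c.Φ 1 v) (u ^ p ^ 1))⁻¹ := by
      have h1 : c.Φ 2 v = c.Φ 1 (c.Φ 1 v) := by simp only [Φ_apply, ← pow_mul, pow_succ, pow_zero, one_mul]
      rw [h1, show u ^ p ^ 2 = (u ^ p ^ 1) ^ p ^ 1 by rw [← pow_mul]; ring_nf, hel]
    have hd2D : c.el (c.Φ 1 a) (m ^ p ^ 1) ∈ c.Dg (c.em x z) := hd2 ▸ (hdiff 2 1).1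
    have hm : m ≠ 1 := fun e => hu (c.eq_one_of_ψ_pow (by
      rw [← map_pow, show u ^ p = u by simpa using mul_inv_eq_one.mp e]))
    -- the center is in the prime field
    have hcen : ∀ (b : F) (n : c.U), n ≠ 1 → b + c.ψ n * c.Φ 1 b = c.Φ 1 b + c.ψ (n ^ p ^ 1) * b →
        ∃ k : ℤ, b = (k : F) * (1 - c.ψ n) := fun b n hn e => by
      have hn1 : 1 - c.ψ n ≠ 0 := sub_ne_zero.mpr fun e' => hn (c.ψ_inj (by rw [map_one]; exact e'.symm))
      have hne' : 1 - c.ψ (n ^ p ^ 1) ≠ 0 := by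
        rw [← c.Φ_ψ, ← map_one (c.Φ 1), ← map_sub]
        exact (map_ne_zero _).mpr hn1
      obtain ⟨k, hk⟩ := c.eq_intCast_of_fix (v := b / (1 - c.ψ n)) (by
        rw [map_div₀, map_sub, map_one, c.Φ_ψ, div_eq_div_iff hne' hn1]
        linear_combination -e)
      exact ⟨k, by rw [← hk, div_mul_cancel₀ _ hn1]⟩
    obtain ⟨k, hk⟩ := hcen a m hm (c.commute_Dg hx hd1D hd2D hm)
    set b : F := -((c.Φ 1 v') / c.ψ (u' ^ p ^ 1)) + c.ψ (u' ^ p ^ 1)⁻¹ * v'
    set n : c.U := (u' ^ p ^ 1)⁻¹ * u'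
    have hc1 : (c.em x z)⁻¹ * c.el a m * c.em x z = c.el b n := by
      rw [hd1]
      have := (hdiff 1 0).2
      simp only [Φ_apply, pow_zero, pow_one] at this ⊢
      simp only [b, n, Φ_apply, pow_one, c.el_inv, c.el_mul] at this ⊢
      exact this
    have hc2 : (c.em x z)⁻¹ * c.el (c.Φ 1 a) (m ^ p ^ 1) * c.em x z = c.el (c.Φ 1 b) (n ^ p ^ 1) := by
      rw [hd2, (hdiff 2 1).2]
      have h1 : c.Φ 2 v' = c.Φ 1 (c.Φ 1 v') := by simp only [Φ_apply, ← pow_mul, pow_succ, pow_zero, one_mul]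
      rw [h1, show u' ^ p ^ 2 = (u' ^ p ^ 1) ^ p ^ 1 by rw [← pow_mul]; ring_nf, hel']
    -- `d` is conjugate to an element of `U`
    have hds : c.el a m = c.s k * m * (c.s k)⁻¹ := by
      rw [c.coe_U, c.s_el, c.el_inv, c.el_mul, c.el_mul, hk]
      simp only [map_one, map_mul, one_mul, mul_one, inv_one]
      congr 1
      ring
    have hn : n ≠ 1 := fun e => by
      have h1 : (c.el a m) ^ geomNat p q = 1 := by
        rw [hds, conj_pow, ← Subgroup.coe_pow, ← c.card_U]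
        haveI := c.finite_U
        rw [pow_card_eq_one', Subgroup.coe_one, mul_one, mul_inv_cancel]
      have h2 : c.tr b ^ geomNat p q = 1 := by
        rw [c.tr_el, ← e, ← hc1, show ((c.em x z)⁻¹ * c.el a m * c.em x z) =
          (c.em x z)⁻¹ * c.el a m * ((c.em x z)⁻¹)⁻¹ by group, conj_pow, h1]
        group
      rw [c.tr_pow, ← c.tr_zero, c.tr_inj] at h2
      have hb : b = 0 := (mul_eq_zero.mp h2).resolve_left fun e' =>
        hp.out.not_dvd_one (c.cop_p ▸ Nat.dvd_gcd ((CharP.cast_eq_zero_iff F p _).mp e') dvd_rfl)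
      have h3 : c.el a m = 1 := by
        have := hc1
        rw [hb, e, ← c.tr_el, c.tr_zero] at this
        rw [show c.el a m = c.em x z * ((c.em x z)⁻¹ * c.el a m * c.em x z) * (c.em x z)⁻¹ by group, this]
        group
      exact hm (c.el_inj (h3.trans (show (1 : G) = c.el 0 1 by simp [el]))).2
    obtain ⟨k', hk'⟩ := hcen b n hn (by
      have e1 : c.el a m * c.el (c.Φ 1 a) (m ^ p ^ 1) = c.el (c.Φ 1 a) (m ^ p ^ 1) * c.el a m := by
        rw [c.el_mul, c.el_mul, c.commute_Dg hx hd1D hd2D hm, c.U_comm]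
      have e2 := congrArg (fun g => (c.em x z)⁻¹ * g * c.em x z) e1
      have e3 : c.el b n * c.el (c.Φ 1 b) (n ^ p ^ 1) = c.el (c.Φ 1 b) (n ^ p ^ 1) * c.el b n := by
        rw [← hc1, ← hc2]
        have key : ∀ A B : G, (c.em x z)⁻¹ * A * c.em x z * ((c.em x z)⁻¹ * B * c.em x z) =
            (c.em x z)⁻¹ * (A * B) * c.em x z := fun A B => by group
        rw [key, key]
        exact e2
      rw [c.el_mul, c.el_mul] at e3
      exact (c.el_inj e3).1)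
    have hds' : c.el b n = c.s k' * n * (c.s k')⁻¹ := by
      rw [c.coe_U, c.s_el, c.el_inv, c.el_mul, c.el_mul, hk']
      simp only [map_one, map_mul, one_mul, mul_one, inv_one]
      congr 1
      ring
    have hr : c.em (c.T (-k) x) (-k + z + k') = (c.s k)⁻¹ * c.em x z * c.s k' := by
      rw [← c.s_neg, c.s_eq, c.s_eq, c.em_mul, c.em_mul]
      simp
    have hconj : c.em (c.T (-k) x) (-k + z + k') * n * (c.em (c.T (-k) x) (-k + z + k'))⁻¹ = m := by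
      rw [hr]
      have := hc1
      rw [hds, hds'] at this
      rw [show (n : G) = (c.s k')⁻¹ * (c.s k' * n * (c.s k')⁻¹) * c.s k' by group, ← this]
      group
    exact ⟨k, -k', -k + z + k', by rw [← c.ti hn hconj, hr, c.s_neg]; group⟩

/-- The case of two powers of `t`. -/
theorem sim_of_twin_t {l l' : ℤ} (hl' : (l' : F) ≠ 0) {v v' : F} {u u' : c.U}
    (h : c.Twin (c.t l) (c.t l') v u v' u') : c.Sim (c.t l) (c.t l') := by
  have h0 : c.el v u * c.t l * c.el v' u' = c.t l' := by simpa [Φ_apply] using h 0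
  have h1 := h 1
  set A₀ := c.el v u
  set A₁ := c.el (c.Φ 1 v) (u ^ p ^ 1)
  set B₀ := c.el v' u'
  set B₁ := c.el (c.Φ 1 v') (u' ^ p ^ 1)
  have key : (c.t l')⁻¹ * (A₁ * A₀⁻¹) * c.t l' = B₁⁻¹ * B₀ := by
    conv_lhs => enter [1, 1]; rw [← h1]
    conv_lhs => enter [2]; rw [← h0]
    group
  have hA : A₁ * A₀⁻¹ ∈ c.Dg (c.t l') := c.mem_Dg.mpr
    ⟨mul_mem (c.el_mem _ _) (inv_mem (c.el_mem _ _)), key ▸ mul_mem (inv_mem (c.el_mem _ _)) (c.el_mem _ _)⟩
  have hB : B₁⁻¹ * B₀ ∈ c.Dg (c.t (-l')) := c.mem_Dg.mpr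
    ⟨mul_mem (inv_mem (c.el_mem _ _)) (c.el_mem _ _), by
      rw [← key, c.t_neg, inv_inv, show c.t l' * ((c.t l')⁻¹ * (A₁ * A₀⁻¹) * c.t l') * (c.t l')⁻¹ = A₁ * A₀⁻¹ by group]
      exact mul_mem (c.el_mem _ _) (inv_mem (c.el_mem _ _))⟩
  simp only [A₀, A₁, B₀, B₁, c.el_inv, c.el_mul] at hA hB
  have eA := c.t_inter hl' hA
  have eB := c.t_inter (by push_cast; exact neg_ne_zero.mpr hl') hB
  obtain ⟨C, hC⟩ := c.eq_intCast_of_fix (v := v / c.ψ u) (by
    rw [map_div₀, c.Φ_ψ]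
    field_simp [c.ψ_ne u, c.ψ_ne (u ^ p ^ 1)] at eA ⊢
    linear_combination eA)
  obtain ⟨B, hB'⟩ := c.eq_intCast_of_fix (v := v') (by
    have hψ : c.ψ (u' ^ p ^ 1)⁻¹ = (c.ψ (u' ^ p ^ 1))⁻¹ :=
      eq_inv_of_mul_eq_one_left (by rw [← map_mul, inv_mul_cancel, map_one])
    rw [hψ] at eB
    field_simp [c.ψ_ne (u' ^ p ^ 1)] at eB
    have := (div_eq_zero_iff.mp eB).resolve_right (c.ψ_ne _)
    linear_combination -this)
  have hA0 : c.el v u = (u : G) * c.s C := by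
    rw [c.mul_tr u (C : F) |> fun h => (h : (u : G) * c.s C = _), el, ← hC, mul_div_cancel₀ _ (c.ψ_ne u)]
  have hB0 : c.el v' u' = c.s B * u' := by rw [el, hB']; rfl
  -- move the elements of `U` to one side
  set w : c.U := u⁻¹ * c.σ l' u'⁻¹
  have hw : c.s C * c.t l * c.s B = (w : G) * c.t l' := by
    rw [Subgroup.coe_mul, mul_assoc ((u⁻¹ : c.U) : G), ← c.t_mul, ← h0, show A₀ = c.el v u from rfl, show B₀ = c.el v' u' from rfl, hA0, hB0]
    simp only [Subgroup.coe_inv]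
    group
  have hwR : (w : G) = c.em (c.T C (c.D l c.yA) + c.T (C + l + B) (-c.T (-l') (c.D l' c.yA))) (C + l + B + -l') := by
    have hinv : (c.t l')⁻¹ = c.em (-c.T (-l') (c.D l' c.yA)) (-l') := by
      refine inv_eq_of_mul_eq_one_right ?_
      rw [c.t_eq, c.em_mul, map_neg, c.T_T, add_neg_cancel, c.T_zero, add_neg_cancel]
      simp [em]
    rw [show (w : G) = c.s C * c.t l * c.s B * (c.t l')⁻¹ by rw [hw, mul_inv_cancel_right], hinv,
      c.t_eq, c.s_eq, c.s_eq, c.em_mul, c.em_mul, c.em_mul]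
    simp
  have hx0 := c.em_mem_H (hwR ▸ c.U_mem w)
  rw [hx0, ← c.s_eq] at hwR
  have hw1 : w = 1 := (c.el_inj ((c.coe_U w).symm.trans (hwR.trans (c.s_el _)))).2
  exact ⟨C, B, by rw [hw, hw1]; simp⟩

/-- The collapse lemma. -/
theorem collapse {xg : c.A} {zg : ℤ} (hxg : xg ≠ 0) {x : c.A} {z : ℤ} (hx : x ≠ 0)
    {v v' : F} {u u' : c.U} (h : c.Twin (c.em xg zg) (c.em x z) v u v' u') :
    c.Sim (c.em xg zg) (c.em x z) := by
  rcases c.core rfl hx h with h1 | ⟨a, b, l, hl⟩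
  · exact h1
  rcases c.core rfl hxg (Twin.symm c h) with h1 | ⟨a', b', l', hl'⟩
  · exact Sim.symm c h1
  have hne : ∀ {y : c.A} {w a b l : ℤ}, y ≠ 0 → c.em y w = c.s a * c.t l * c.s b → (l : F) ≠ 0 := by
    intro y w a b l hy he h0
    refine hy (c.em_mem_H (z := w) ?_)
    rw [he, show c.t l = 1 by rw [Cfg.t, Cfg.s, h0, c.tr_zero, mul_one, mul_inv_cancel], mul_one]
    exact mul_mem (c.s_mem a) (c.s_mem b)
  have h2 := Twin.absorb c h (-a') (-b') (-a) (-b)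
  rw [hl, hl', show c.s (-a') * (c.s a' * c.t l' * c.s b') * c.s (-b') = c.t l' by simp only [s_neg]; group,
    show c.s (-a) * (c.s a * c.t l * c.s b) * c.s (-b) = c.t l by simp only [s_neg]; group] at h2
  obtain ⟨i, j, hij⟩ := c.sim_of_twin_t (hne hx hl) h2
  exact ⟨a + i + -a', -b' + j + b, by rw [hl, hl', hij]; simp only [s_add, s_neg]; group⟩

end Cfsg.Lib.Local.AppC.Cfg
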