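import Cfsg.Agent.Lib.Local.AppC.Field

/-!
The configuration of Bender-Glauberman, Appendix C: a group `P U` isomorphic to the field additive
group extended by the norm-one units, an abelian `p'`-group `Q` normalized by `P₀ = ⟨s⟩` without
fixed points, and `y ∈ Q` such that `t = y s y⁻¹` normalizes `U`.
-/

set_option autoImplicit false
set_option linter.style.haveILetI false

namespace Cfsg.Lib.Local.AppC

open Multiplicative (ofAdd)

/-- The configuration. -/
structure Cfg (p q : ℕ) (G : Type*) [Group G] (F : Type*) [Field F] [Fintype F] where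
  fi : Multiplicative F →* G
  fi_inj : Function.Injective fi
  U : Subgroup G
  ψ : U →* F
  ψ_inj : Function.Injective ψ
  conj : ∀ (u : U) (v : F), (u : G) * fi (ofAdd v) * (u : G)⁻¹ = fi (ofAdd (ψ u * v))
  card_U : Nat.card U = geomNat p q
  card_F : Fintype.card F = p ^ q
  cop_n : (geomNat p q).Coprime (p - 1)
  five : 5 ≤ p
  hq : q.Prime
  ne : q ≠ p
  Q : Subgroup G
  comm : ∀ a ∈ Q, ∀ b ∈ Q, a * b = b * a
  cop : (Nat.card Q).Coprime p
  nQ : fi (ofAdd 1) ∈ Subgroup.normalizer (Q : Set G)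
  y : G
  hy : y ∈ Q
  nt : y * fi (ofAdd 1) * y⁻¹ ∈ Subgroup.normalizer (U : Set G)
  fixed : ∀ x ∈ Q, fi (ofAdd 1) * x = x * fi (ofAdd 1) → x = 1

variable {p q : ℕ} [hp : Fact p.Prime] {G : Type*} [Group G] {F : Type*} [Field F] [Fintype F]
  [CharP F p] (c : Cfg p q G F)

theorem exists_int_of_pow {v : F} (hv : v ^ p = v) : ∃ z : ℤ, v = (z : F) := by
  classical
  by_contra hcon
  push_neg at hcon
  have hsub : insert v (Finset.univ.image (ZMod.castHom (dvd_refl p) F)) ⊆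
      (Polynomial.X ^ p - Polynomial.X : Polynomial F).roots.toFinset := by
    intro x hx
    rw [Multiset.mem_toFinset, Polynomial.mem_roots (FiniteField.X_pow_card_sub_X_ne_zero F hp.out.one_lt),
      Polynomial.IsRoot.def, Polynomial.eval_sub, Polynomial.eval_pow, Polynomial.eval_X, sub_eq_zero]
    rcases Finset.mem_insert.mp hx with rfl | hx
    · exact hv
    · obtain ⟨r, -, rfl⟩ := Finset.mem_image.mp hx
      rw [← map_pow, ZMod.pow_card]
  have := (Finset.card_le_card hsub).trans (Multiset.toFinset_card_le _) |>.trans (Polynomial.card_roots' _)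
  rw [Finset.card_insert_of_notMem (fun h => by
      obtain ⟨r, -, hr⟩ := Finset.mem_image.mp h
      refine hcon (r.val : ℤ) ?_
      rw [← hr, Int.cast_natCast]
      conv_lhs => rw [← ZMod.natCast_zmod_val r]
      rw [map_natCast]),
    Finset.card_image_of_injective _ (ZMod.castHom dvd_rfl F).injective,
    FiniteField.X_pow_card_sub_X_natDegree_eq F hp.out.one_lt, Finset.card_univ, ZMod.card] at this
  omega

namespace Cfg

include c

/-- Translation. -/
def tr (v : F) : G := c.fi (ofAdd v)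

omit hp [CharP F p] in
theorem tr_add (v w : F) : c.tr (v + w) = c.tr v * c.tr w := map_mul c.fi (ofAdd v) (ofAdd w)

omit hp [CharP F p] in
@[simp] theorem tr_zero : c.tr 0 = 1 := map_one c.fi

omit hp [CharP F p] in
theorem tr_neg (v : F) : c.tr (-v) = (c.tr v)⁻¹ := map_inv c.fi (ofAdd v)

omit hp [CharP F p] in
theorem tr_inj {v w : F} : c.tr v = c.tr w ↔ v = w :=
  ⟨fun h => ofAdd.injective (c.fi_inj h), fun h => h ▸ rfl⟩

omit hp [CharP F p] in
theorem tr_zpow (v : F) (z : ℤ) : c.tr v ^ z = c.tr (z * v) := by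
  rw [tr, ← map_zpow, ← zsmul_eq_mul]; rfl

omit hp [CharP F p] in
theorem tr_pow (v : F) (k : ℕ) : c.tr v ^ k = c.tr (k * v) := by
  rw [← zpow_natCast, c.tr_zpow, Int.cast_natCast]

omit hp [CharP F p] in
theorem conj_tr (u : c.U) (v : F) : (u : G) * c.tr v * (u : G)⁻¹ = c.tr (c.ψ u * v) := c.conj u v

omit hp [CharP F p] in
theorem mul_tr (u : c.U) (v : F) : (u : G) * c.tr v = c.tr (c.ψ u * v) * u := by
  rw [← c.conj_tr, inv_mul_cancel_right]

omit hp [CharP F p] in
theorem ψ_ne (u : c.U) : c.ψ u ≠ 0 := ((Group.isUnit u).map c.ψ).ne_zero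

theorem cop_p : (geomNat p q).Coprime p := by
  have h := (geomNat_mul p q).resolve_right hp.out.ne_zero
  refine (hp.out.coprime_iff_not_dvd.mpr fun hd => ?_).symm
  have h1 : p ∣ p ^ q := dvd_pow_self p c.hq.ne_zero
  rw [← h] at h1
  exact hp.out.not_dvd_one ((Nat.dvd_add_right (dvd_mul_of_dvd_left hd _)).mp h1)

omit hp [CharP F p] in
theorem ψ_pow (u : c.U) : c.ψ u ^ geomNat p q = 1 := by
  rw [← map_pow, ← c.card_U, pow_card_eq_one', map_one]

theorem geom_pos : 0 < geomNat p q := geomNat_pos hp.out.pos c.hq.pos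

theorem finite_U : Finite c.U := Nat.finite_of_card_ne_zero (c.card_U ▸ c.geom_pos.ne')

theorem exists_ψ {v : F} (hv : v ^ geomNat p q = 1) : ∃ u : c.U, c.ψ u = v := by
  classical
  haveI := c.finite_U
  haveI := Fintype.ofFinite c.U
  have hsub : Finset.univ.image c.ψ ⊆ (Polynomial.nthRootsFinset (geomNat p q) (1 : F)) := fun x hx => by
    obtain ⟨u, -, rfl⟩ := Finset.mem_image.mp hx
    exact (Polynomial.mem_nthRootsFinset c.geom_pos _).mpr (c.ψ_pow u)
  have heq := Finset.eq_of_subset_of_card_le hsub (by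
    rw [Finset.card_image_of_injective _ c.ψ_inj, Finset.card_univ, ← Nat.card_eq_fintype_card, c.card_U]
    rw [Polynomial.nthRootsFinset_def]
    exact (Multiset.toFinset_card_le _).trans (Polynomial.card_nthRoots _ _))
  obtain ⟨u, -, hu⟩ := Finset.mem_image.mp (heq ▸ (Polynomial.mem_nthRootsFinset c.geom_pos _).mpr hv)
  exact ⟨u, hu⟩

omit hp [CharP F p] in
theorem U_comm (u v : c.U) : u * v = v * u := c.ψ_inj (by rw [map_mul, map_mul, mul_comm])

/-- The iterated Frobenius. -/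
noncomputable def Φ (_c : Cfg p q G F) (i : ℕ) : F →+* F := iterateFrobenius F p i

theorem Φ_apply (i : ℕ) (v : F) : c.Φ i v = v ^ p ^ i := iterateFrobenius_def ..

theorem Φ_ψ (i : ℕ) (u : c.U) : c.Φ i (c.ψ u) = c.ψ (u ^ p ^ i) := by rw [c.Φ_apply, map_pow]

theorem eq_one_of_ψ_pow {u : c.U} (h : c.ψ u ^ p = c.ψ u) : u = 1 := by
  refine c.ψ_inj ?_
  rw [map_one]
  have h1 : c.ψ u ^ (p - 1) = 1 := by
    refine mul_left_cancel₀ (c.ψ_ne u) ?_
    rw [← pow_succ', Nat.sub_add_cancel hp.out.one_le, h, mul_one]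
  exact orderOf_eq_one_iff.mp (Nat.eq_one_of_dvd_coprimes c.cop_n
    (orderOf_dvd_of_pow_eq_one (c.ψ_pow u)) (orderOf_dvd_of_pow_eq_one h1))

theorem intCast_pow (z : ℤ) : ((z : F)) ^ p = (z : F) := by
  have : iterateFrobenius F p 1 (z : F) = (z : F) := map_intCast _ z
  rwa [iterateFrobenius_def, pow_one] at this

theorem eq_one_of_ψ_int {u : c.U} {z : ℤ} (h : c.ψ u = (z : F)) : u = 1 :=
  c.eq_one_of_ψ_pow (by rw [h, c.intCast_pow])

/-- Every nonzero element is a prime field multiple of a norm-one element. -/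
theorem exists_class {v : F} (hv : v ≠ 0) : ∃ (k : ℤ) (w : c.U), (k : F) ≠ 0 ∧ v = k * c.ψ w := by
  set n := geomNat p q
  have hn1 : n * (p - 1) + 1 = p ^ q := (geomNat_mul p q).resolve_right hp.out.ne_zero
  have hp1 : 1 < p - 1 := by have := c.five; omega
  obtain ⟨m, -, hm⟩ := Nat.exists_mul_mod_eq_one_of_coprime c.cop_n hp1
  have hvn : (v ^ n) ^ (p - 1) = 1 := by
    rw [← pow_mul, show n * (p - 1) = Fintype.card F - 1 by rw [c.card_F]; omega]
    exact FiniteField.pow_card_sub_one_eq_one v hv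
  have hfix : (v ^ n) ^ m * ((v ^ n) ^ m) ^ (p - 1) = (v ^ n) ^ m := by
    rw [← pow_mul (v ^ n) m, mul_comm m, pow_mul, hvn, one_pow, mul_one]
  obtain ⟨k, hk⟩ := exists_int_of_pow (p := p) (v := (v ^ n) ^ m) (by
    conv_lhs => rw [← Nat.sub_add_cancel hp.out.one_le, pow_succ']
    exact hfix)
  have hk0 : (k : F) ≠ 0 := hk ▸ pow_ne_zero _ (pow_ne_zero _ hv)
  have hkn : (k : F) ^ n = v ^ n := by
    rw [← hk, ← pow_mul (v ^ n) m n, mul_comm m n]
    conv_lhs => rw [← Nat.mod_add_div (n * m) (p - 1), hm, pow_add, pow_mul, hvn, one_pow, mul_one, pow_one]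
  obtain ⟨w, hw⟩ := c.exists_ψ (v := v / k) (by rw [div_pow, hkn, div_self (pow_ne_zero _ hv)])
  exact ⟨k, w, hk0, by rw [hw, mul_div_cancel₀ _ hk0]⟩

/-- The powers of `s`. -/
def s (z : ℤ) : G := c.tr (z : F)

omit hp [CharP F p] in
theorem s_add (a b : ℤ) : c.s (a + b) = c.s a * c.s b := by rw [s, Int.cast_add, c.tr_add]; rfl

omit hp [CharP F p] in
@[simp] theorem s_zero : c.s 0 = 1 := by simp [s]

omit hp [CharP F p] in
theorem s_neg (a : ℤ) : c.s (-a) = (c.s a)⁻¹ := by rw [s, Int.cast_neg, c.tr_neg]; rfl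

omit hp [CharP F p] in
theorem s_eq_zpow (z : ℤ) : c.s z = c.fi (ofAdd 1) ^ z := by
  show c.tr (z : F) = c.tr 1 ^ z
  rw [c.tr_zpow, mul_one]

omit hp [CharP F p] in
theorem s_normQ (z : ℤ) : c.s z ∈ Subgroup.normalizer (c.Q : Set G) := c.s_eq_zpow z ▸ zpow_mem c.nQ z

/-- `Q` written additively. -/
abbrev A : Type _ := Additive c.Q

instance commGroupQ : CommGroup c.Q :=
  { (inferInstance : Group c.Q) with mul_comm := fun a b => Subtype.ext (c.comm a a.2 b b.2) }

/-- The underlying element. -/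
def qv (x : c.A) : G := ((Additive.toMul x : c.Q) : G)

omit hp [CharP F p] in
theorem qv_add (x x' : c.A) : c.qv (x + x') = c.qv x * c.qv x' := rfl

omit hp [CharP F p] in
@[simp] theorem qv_zero : c.qv 0 = 1 := rfl

omit hp [CharP F p] in
theorem qv_neg (x : c.A) : c.qv (-x) = (c.qv x)⁻¹ := rfl

omit hp [CharP F p] in
theorem qv_inj {x x' : c.A} : c.qv x = c.qv x' ↔ x = x' :=
  ⟨fun h => Additive.toMul.injective (Subtype.ext h), fun h => h ▸ rfl⟩

/-- The action of `s ^ z`. -/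
def T (z : ℤ) : c.A →+ c.A where
  toFun x := Additive.ofMul ⟨c.s z * c.qv x * (c.s z)⁻¹,
    (Subgroup.mem_normalizer_iff.mp (c.s_normQ z) _).mp (Additive.toMul x).2⟩
  map_zero' := Additive.toMul.injective (Subtype.ext (by simp [qv]))
  map_add' x x' := Additive.toMul.injective (Subtype.ext (by simp [qv, mul_assoc]))

omit hp [CharP F p] in
theorem qv_T (z : ℤ) (x : c.A) : c.qv (c.T z x) = c.s z * c.qv x * (c.s z)⁻¹ := rfl

omit hp [CharP F p] in
theorem T_T (a b : ℤ) (x : c.A) : c.T a (c.T b x) = c.T (a + b) x := c.qv_inj.mp (by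
  simp only [qv_T, s_add, mul_inv_rev, mul_assoc])

omit hp [CharP F p] in
@[simp] theorem T_zero (x : c.A) : c.T 0 x = x := c.qv_inj.mp (by simp [qv_T])

omit hp [CharP F p] in
theorem T_congr {a b : ℤ} (h : (a : F) = (b : F)) : c.T a = c.T b :=
  AddMonoidHom.ext fun x => c.qv_inj.mp (by simp only [qv_T, s, h])

/-- `x ↦ x - T z x`. -/
def D (z : ℤ) : c.A →+ c.A := AddMonoidHom.id c.A - c.T z

omit hp [CharP F p] in
theorem D_apply (z : ℤ) (x : c.A) : c.D z x = x - c.T z x := rfl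

/-- The element `y` in `Q`. -/
def yA : c.A := Additive.ofMul ⟨c.y, c.hy⟩

/-- The element `x s^z` of `Q P₀`. -/
def em (x : c.A) (z : ℤ) : G := c.qv x * c.s z

omit hp [CharP F p] in
theorem em_mul (x x' : c.A) (a b : ℤ) : c.em x a * c.em x' b = c.em (x + c.T a x') (a + b) := by
  simp only [em, qv_add, qv_T, s_add]
  group

omit hp [CharP F p] in
theorem s_eq (z : ℤ) : c.s z = c.em 0 z := by simp [em]

/-- The powers of `t`. -/
def t (z : ℤ) : G := c.y * c.s z * c.y⁻¹

omit hp [CharP F p] in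
theorem t_eq (z : ℤ) : c.t z = c.em (c.D z c.yA) z := by
  simp only [em, D_apply, sub_eq_add_neg, qv_add, qv_neg, qv_T, t]
  show _ = c.y * (c.s z * c.y * (c.s z)⁻¹)⁻¹ * c.s z
  group

omit hp [CharP F p] in
theorem t_add (a b : ℤ) : c.t (a + b) = c.t a * c.t b := by simp only [t, s_add]; group

omit hp [CharP F p] in
@[simp] theorem t_zero : c.t 0 = 1 := by simp [t]

omit hp [CharP F p] in
theorem t_neg (a : ℤ) : c.t (-a) = (c.t a)⁻¹ := by simp only [t, s_neg]; group

omit hp [CharP F p] in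
theorem t_normU (z : ℤ) : c.t z ∈ Subgroup.normalizer (c.U : Set G) := by
  rw [t, c.s_eq_zpow, ← conj_zpow]
  exact zpow_mem c.nt z

/-- Conjugation by `t ^ z` on `U`. -/
def σ (z : ℤ) : c.U →* c.U where
  toFun u := ⟨c.t z * u * (c.t z)⁻¹, (Subgroup.mem_normalizer_iff.mp (c.t_normU z) _).mp u.2⟩
  map_one' := Subtype.ext (by simp)
  map_mul' u v := Subtype.ext (by simp [mul_assoc])

omit hp [CharP F p] in
theorem coe_σ (z : ℤ) (u : c.U) : (c.σ z u : G) = c.t z * u * (c.t z)⁻¹ := rfl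

omit hp [CharP F p] in
theorem t_mul (z : ℤ) (u : c.U) : c.t z * u = c.σ z u * c.t z := by rw [coe_σ, inv_mul_cancel_right]

omit hp [CharP F p] in
theorem σ_σ (a b : ℤ) (u : c.U) : c.σ a (c.σ b u) = c.σ (a + b) u := Subtype.ext (by
  simp only [coe_σ, t_add, mul_inv_rev, mul_assoc])

omit hp [CharP F p] in
@[simp] theorem σ_zero (u : c.U) : c.σ 0 u = u := Subtype.ext (by simp [coe_σ])

omit hp [CharP F p] in
theorem σ_inj (z : ℤ) : Function.Injective (c.σ z) := fun u v h => by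
  simpa [σ_σ] using congrArg (c.σ (-z)) h

omit hp [CharP F p] in
theorem mul_t (z : ℤ) (u : c.U) : (u : G) * c.t z = c.t z * c.σ (-z) u := by
  rw [c.t_mul, σ_σ, add_neg_cancel, σ_zero]

/-- The element `v u` of `P U`. -/
def el (v : F) (u : c.U) : G := c.tr v * u

omit hp [CharP F p] in
theorem el_mul (v v' : F) (u u' : c.U) : c.el v u * c.el v' u' = c.el (v + c.ψ u * v') (u * u') := by
  simp only [el, c.tr_add, Subgroup.coe_mul]
  rw [mul_assoc, ← mul_assoc (u : G), c.mul_tr]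
  simp only [mul_assoc]

omit hp [CharP F p] in
theorem el_inv (v : F) (u : c.U) : (c.el v u)⁻¹ = c.el (-(v / c.ψ u)) u⁻¹ := by
  refine inv_eq_of_mul_eq_one_right ?_
  rw [c.el_mul, mul_inv_cancel, mul_neg, mul_div_cancel₀ _ (c.ψ_ne u), add_neg_cancel]
  simp [el]

omit hp [CharP F p] in
theorem coe_U (u : c.U) : (u : G) = c.el 0 u := by simp [el]

omit hp [CharP F p] in
theorem tr_el (v : F) : c.tr v = c.el v 1 := by simp [el]

omit hp [CharP F p] in
theorem s_el (z : ℤ) : c.s z = c.el (z : F) 1 := c.tr_el _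

theorem el_inj {v v' : F} {u u' : c.U} (h : c.el v u = c.el v' u') : v = v' ∧ u = u' := by
  have h1 : c.tr (-v' + v) = ((u' * u⁻¹ : c.U) : G) := by
    rw [c.tr_add, c.tr_neg, Subgroup.coe_mul, Subgroup.coe_inv]
    simp only [el] at h
    rw [show c.tr v = c.tr v' * u' * (u : G)⁻¹ by rw [← h, mul_inv_cancel_right]]
    group
  haveI := c.finite_U
  have ho : orderOf (u' * u⁻¹ : c.U) = 1 := by
    refine Nat.eq_one_of_dvd_coprimes c.cop_p (c.card_U ▸ orderOf_dvd_natCard _) ?_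
    rw [← Subgroup.orderOf_coe, ← h1]
    refine orderOf_dvd_of_pow_eq_one ?_
    rw [c.tr_pow, CharP.cast_eq_zero, zero_mul, c.tr_zero]
  rw [orderOf_eq_one_iff] at ho
  rw [ho, Subgroup.coe_one, ← c.tr_zero, c.tr_inj, neg_add_eq_zero] at h1
  exact ⟨h1.symm, (mul_inv_eq_one.mp ho).symm⟩

/-- The group `P U`. -/
def H : Subgroup G where
  carrier := {g | ∃ v u, g = c.el v u}
  one_mem' := ⟨0, 1, by simp [el]⟩
  mul_mem' := by
    rintro _ _ ⟨v, u, rfl⟩ ⟨v', u', rfl⟩
    exact ⟨_, _, c.el_mul v v' u u'⟩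
  inv_mem' := by
    rintro _ ⟨v, u, rfl⟩
    exact ⟨_, _, c.el_inv v u⟩

omit hp [CharP F p] in
theorem el_mem (v : F) (u : c.U) : c.el v u ∈ c.H := ⟨v, u, rfl⟩

omit hp [CharP F p] in
theorem s_mem (z : ℤ) : c.s z ∈ c.H := ⟨_, _, c.s_el z⟩

omit hp [CharP F p] in
theorem U_mem (u : c.U) : (u : G) ∈ c.H := ⟨_, _, c.coe_U u⟩

variable [Finite G]

omit [CharP F p] in
theorem qv_eq_tr [CharP F p] {x : c.A} {v : F} (h : c.qv x = c.tr v) : x = 0 ∧ v = 0 := by
  have h1 : c.qv x = 1 := by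
    refine orderOf_eq_one_iff.mp (Nat.eq_one_of_dvd_coprimes c.cop
      (Subgroup.orderOf_dvd_natCard c.Q (Additive.toMul x).2) (orderOf_dvd_of_pow_eq_one ?_))
    rw [h, c.tr_pow, CharP.cast_eq_zero, zero_mul, c.tr_zero]
  exact ⟨c.qv_inj.mp (h1.trans c.qv_zero.symm), c.tr_inj.mp ((h.symm.trans h1).trans c.tr_zero.symm)⟩

theorem em_inj {x x' : c.A} {z z' : ℤ} (h : c.em x z = c.em x' z') : x = x' ∧ (z : F) = (z' : F) := by
  have h1 : c.qv (-x' + x) = c.tr ((z' : F) - z) := by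
    rw [qv_add, qv_neg, sub_eq_add_neg, c.tr_add, c.tr_neg]
    simp only [em, s] at h
    rw [show c.qv x = c.qv x' * c.tr (z' : F) * (c.tr (z : F))⁻¹ by rw [← h, mul_inv_cancel_right]]
    group
  obtain ⟨h2, h3⟩ := c.qv_eq_tr h1
  exact ⟨(neg_add_eq_zero.mp h2).symm, (sub_eq_zero.mp h3).symm⟩

/-- `s ^ z` fixes no nontrivial element of `Q`. -/
theorem D_inj {z : ℤ} (hz : (z : F) ≠ 0) {x : c.A} (h : c.D z x = 0) : x = 0 := by
  have hcomm : Commute (c.s z) (c.qv x) := by
    have h1 : c.qv (c.T z x) = c.qv x := by rw [← sub_eq_zero.mp ((c.D_apply z x).symm.trans h)]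
    rw [qv_T] at h1
    exact mul_inv_eq_iff_eq_mul.mp h1
  have hz' : (z : ZMod p) ≠ 0 := fun e => hz (by
    simpa using congrArg (ZMod.castHom (dvd_refl p) F) e)
  have hk : (z : F) * (((z : ZMod p)⁻¹).val : ℕ) = 1 := by
    have := congrArg (ZMod.castHom (dvd_refl p) F) (mul_inv_cancel₀ hz')
    rw [map_mul, map_intCast, map_one] at this
    conv_rhs => rw [← this]
    congr 1
    conv_rhs => rw [← ZMod.natCast_zmod_val (z : ZMod p)⁻¹]
    rw [map_natCast]
  have h2 := hcomm.pow_left (((z : ZMod p)⁻¹).val)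
  rw [s, c.tr_pow, mul_comm, hk] at h2
  exact c.qv_inj.mp ((c.fixed _ (Additive.toMul x).2 h2).trans c.qv_zero.symm)

theorem one_lt_geom : 1 < geomNat p q := by
  have h : p ^ 1 ≤ geomNat p q := Finset.single_le_sum (f := fun i => p ^ i) (fun _ _ => Nat.zero_le _)
    (Finset.mem_range.mpr c.hq.one_lt)
  have := hp.out.two_le
  rw [pow_one] at h
  omega

theorem exists_ne_one : ∃ u : c.U, u ≠ 1 := by
  haveI : Nontrivial c.U := by
    haveI := c.finite_U
    exact Finite.one_lt_card_iff_nontrivial.mp (c.card_U ▸ c.one_lt_geom)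
  exact exists_ne 1

theorem yA_ne : c.yA ≠ 0 := by
  intro h
  have hy : c.y = 1 := c.qv_inj.mpr h
  obtain ⟨u, hu⟩ := c.exists_ne_one
  have h1 : ((c.σ 1 u : c.U) : G) = c.el (1 - c.ψ u) u := by
    rw [coe_σ, t, hy, one_mul, inv_one, mul_one, c.coe_U, c.s_el, c.el_inv, c.el_mul, c.el_mul]
    norm_num
    ring_nf
  rw [c.coe_U] at h1
  refine hu (c.ψ_inj ?_)
  rw [map_one]
  exact (sub_eq_zero.mp (c.el_inj h1).1.symm).symm

theorem D_yA_ne {z : ℤ} (hz : (z : F) ≠ 0) : c.D z c.yA ≠ 0 := fun h => c.yA_ne (c.D_inj hz h)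

/-- `Q P₀` meets `P U` in `P₀`. -/
theorem em_mem_H {x : c.A} {z : ℤ} (h : c.em x z ∈ c.H) : x = 0 := by
  have hx : c.qv x ∈ c.H := by
    have := mul_mem h (inv_mem (c.s_mem z))
    rwa [em, mul_inv_cancel_right] at this
  obtain ⟨v, u, hvu⟩ := hx
  have hconj : c.qv x * c.tr 1 * (c.qv x)⁻¹ = c.tr (c.ψ u) := by
    rw [hvu]
    simp only [c.tr_el, c.el_inv, c.el_mul]
    congr 1
    · simp only [map_mul, map_one, mul_one, one_mul]
      field_simp [c.ψ_ne u]
      ring
    · simp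
  refine c.D_inj (z := 1) (by simp) ?_
  refine (c.qv_eq_tr (v := c.ψ u - 1) ?_).1
  rw [D_apply, sub_eq_add_neg, qv_add, qv_neg, qv_T, sub_eq_add_neg, c.tr_add, c.tr_neg, ← hconj, s, Int.cast_one]
  group

/-- An additive subgroup stable under multiplication by some norm-one element is everything. -/
theorem eq_top_of_stable (V : AddSubgroup F) {u : c.U} (hu : u ≠ 1) (hst : ∀ v ∈ V, c.ψ u * v ∈ V)
    {v₀ : F} (hv₀ : v₀ ∈ V) (hne : v₀ ≠ 0) (v : F) : v ∈ V := by
  letI := ZMod.algebra F p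
  let S : Subalgebra (ZMod p) F :=
    { carrier := {m | ∀ v ∈ V, m * v ∈ V}
      one_mem' := fun v hv => by rwa [one_mul]
      mul_mem' := fun {a b} ha hb v hv => by rw [mul_assoc]; exact ha _ (hb _ hv)
      zero_mem' := fun v _ => by rw [zero_mul]; exact V.zero_mem
      add_mem' := fun {a b} ha hb v hv => by rw [add_mul]; exact V.add_mem (ha _ hv) (hb _ hv)
      algebraMap_mem' := fun r v hv => by
        rw [← ZMod.natCast_zmod_val r, map_natCast, ← nsmul_eq_mul]
        exact V.nsmul_mem hv _ }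
  have hfin : Module.finrank (ZMod p) F = q := by
    have h := Module.card_eq_pow_finrank (K := ZMod p) (V := F)
    rw [c.card_F, ZMod.card] at h
    exact (Nat.pow_right_injective hp.out.two_le h).symm
  haveI := Subalgebra.isSimpleOrder_of_finrank_prime (ZMod p) F (by rw [hfin]; exact c.hq)
  rcases eq_bot_or_eq_top S with h | h
  · have hμ : c.ψ u ∈ S := hst
    rw [h, Algebra.mem_bot] at hμ
    obtain ⟨r, hr⟩ := hμ
    exact absurd (c.eq_one_of_ψ_int (z := (r.val : ℤ)) (by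
      rw [← hr, Int.cast_natCast]
      conv_lhs => rw [← ZMod.natCast_zmod_val r]
      rw [map_natCast])) hu
  · have hm : v / v₀ ∈ S := h ▸ Algebra.mem_top
    have := hm v₀ hv₀
    rwa [div_mul_cancel₀ _ hne] at this

end Cfg

end Cfsg.Lib.Local.AppC
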