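import Mathlib

/-!
Field arithmetic for the final step of the odd order theorem (Bender-Glauberman, Appendix C):
elements of norm one `a ≠ 1` with `2 - a` of norm one exist, and a set of them closed under
inversion forces `p ≤ q`.
-/

set_option autoImplicit false
set_option linter.style.haveILetI false

namespace Cfsg.Lib.Local.AppC

open Polynomial Finset

variable {F : Type*} [Field F] {p q : ℕ}

/-- `1 + p + ... + p^(q-1)`. -/
def geomNat (p q : ℕ) : ℕ := ∑ i ∈ range q, p ^ i

theorem geomNat_mul (p q : ℕ) : geomNat p q * (p - 1) + 1 = p ^ q ∨ p = 0 := by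
  rcases Nat.eq_zero_or_pos p with h | h
  · exact Or.inr h
  refine Or.inl ?_
  induction q with
  | zero => simp [geomNat]
  | succ q ih =>
    rw [geomNat, sum_range_succ, ← geomNat, add_mul, pow_succ]
    obtain ⟨m, rfl⟩ : ∃ m, p = m + 1 := ⟨p - 1, by omega⟩
    simp only [Nat.add_sub_cancel] at ih ⊢
    rw [mul_add ((m + 1) ^ q) m 1, mul_one]
    omega

theorem geomNat_pos (hp : 0 < p) (hq : 0 < q) : 0 < geomNat p q :=
  sum_pos (fun _ _ => pow_pos hp _) (nonempty_range_iff.mpr hq.ne')

theorem pow_geomNat (x : F) : x ^ geomNat p q = ∏ i ∈ range q, x ^ p ^ i :=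
  (prod_pow_eq_pow_sum _ _ _).symm

/-- If `1 + k z` has norm one for every natural `k`, then `p ≤ q`. -/
theorem le_of_norm_line [CharP F p] [hp : Fact p.Prime] (hq : 0 < q) {z : F} (hz : z ≠ 0)
    (h : ∀ k : ℕ, (1 + (k : F) * z) ^ geomNat p q = 1) : p ≤ q := by
  classical
  set Φ : F[X] := (∏ i ∈ range q, (C (z ^ p ^ i) * X + C 1)) - 1
  have hdeg : ∀ i ∈ range q, (C (z ^ p ^ i) * X + C 1).natDegree = 1 := fun i _ =>
    natDegree_linear (pow_ne_zero _ hz)
  have hprod : (∏ i ∈ range q, (C (z ^ p ^ i) * X + C 1)).natDegree = q := by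
    rw [natDegree_prod _ _ fun i hi e => by have := hdeg i hi; rw [e, natDegree_zero] at this; omega, sum_congr rfl hdeg]
    simp
  have hΦ : Φ.natDegree = q := by
    rw [natDegree_sub_eq_left_of_natDegree_lt, hprod]
    rw [hprod, natDegree_one]
    exact hq
  have hΦ0 : Φ ≠ 0 := fun e => by rw [e, natDegree_zero] at hΦ; omega
  have hinj : Set.InjOn (fun k : ℕ => (k : F)) (range p : Set ℕ) := fun a ha b hb e => by
    have ha' : a < p := List.mem_range.mp (by simpa using ha)
    have hb' : b < p := List.mem_range.mp (by simpa using hb)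
    exact ((CharP.natCast_eq_natCast F p).mp e).eq_of_lt_of_lt ha' hb'
  have hsub : (range p).image (fun k : ℕ => (k : F)) ⊆ Φ.roots.toFinset := by
    intro x hx
    obtain ⟨k, -, rfl⟩ := mem_image.mp hx
    rw [Multiset.mem_toFinset, mem_roots hΦ0, IsRoot.def, eval_sub, eval_prod, eval_one, sub_eq_zero]
    have hh := h k
    rw [pow_geomNat] at hh
    refine (prod_congr rfl fun i _ => ?_).trans hh
    rw [add_pow_char_pow, one_pow, mul_pow, eval_add, eval_mul, eval_C, eval_X, eval_C,
      show ((k : F)) ^ p ^ i = (k : F) by rw [← iterateFrobenius_def, map_natCast]]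
    ring
  have h1 := (card_le_card hsub).trans (Multiset.toFinset_card_le _) |>.trans (card_roots' Φ)
  rwa [card_image_of_injOn hinj, card_range, hΦ] at h1

/-- A nontrivial element of the set `E` with `E⁻¹ = E` forces `p ≤ q`. -/
theorem le_of_inv_closed [CharP F p] [hp : Fact p.Prime] (hq : 0 < q)
    (hE : ∀ a : F, a ^ geomNat p q = 1 → (2 - a) ^ geomNat p q = 1 → (2 * a - 1) ^ geomNat p q = 1)
    {a : F} (ha1 : a ≠ 1) (ha : a ^ geomNat p q = 1) (ha2 : (2 - a) ^ geomNat p q = 1) : p ≤ q := by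
  set n := geomNat p q
  have hn : n ≠ 0 := (geomNat_pos hp.out.pos hq).ne'
  refine le_of_norm_line hq (sub_ne_zero.mpr (Ne.symm ha1) : (1 - a) ≠ 0) ?_
  -- `D k = 1 + k (1 - a)` and `e k = D (k - 1) / D k ∈ E`
  suffices H : ∀ k : ℕ, (1 + (k : F) * (1 - a)) ^ n = 1 ∧
      ∃ e : F, e ^ n = 1 ∧ (2 - e) ^ n = 1 ∧ e * (1 + (k : F) * (1 - a)) = 1 + ((k : F) - 1) * (1 - a) from
    fun k => (H k).1
  intro k
  induction k with
  | zero => exact ⟨by simp, a, ha, ha2, by simp⟩
  | succ k ih =>
    obtain ⟨hD, e, he, he2, heD⟩ := ih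
    have hnext : 1 + ((k + 1 : ℕ) : F) * (1 - a) = (2 - e) * (1 + (k : F) * (1 - a)) := by
      push_cast
      linear_combination heD
    have he20 : (2 - e) ≠ 0 := fun h0 => by rw [h0, zero_pow hn] at he2; exact zero_ne_one he2
    refine ⟨by rw [hnext, mul_pow, he2, hD, one_mul], (2 - e)⁻¹, by rw [inv_pow, he2, inv_one], ?_, ?_⟩
    · have h2 : (2 * (2 - e) - 1) ^ n = 1 := hE _ he2 (by rwa [sub_sub_cancel])
      rw [show 2 - (2 - e)⁻¹ = (2 * (2 - e) - 1) * (2 - e)⁻¹ by field_simp, mul_pow, h2, inv_pow, he2]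
      simp
    · rw [hnext, inv_mul_cancel_left₀ he20]
      push_cast
      ring

/-- The case `q = 3` of the existence of `a ≠ 1` with `N a = N (2 - a) = 1`. -/
theorem exists_norm_pair_three [Fintype F] [CharP F p] [hp : Fact p.Prime] (h5 : 5 ≤ p)
    (hF : Fintype.card F = p ^ 3) :
    ∃ a : F, a ≠ 1 ∧ a ^ geomNat p 3 = 1 ∧ (2 - a) ^ geomNat p 3 = 1 := by
  classical
  -- a cubic `x^3 - T x^2 + (2T - 3) x - 1` without roots in the prime field
  obtain ⟨T, hT⟩ : ∃ T : ZMod p, ∀ r : ZMod p, r ^ 3 - T * r ^ 2 + (2 * T - 3) * r - 1 ≠ 0 := by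
    by_contra hcon
    push_neg at hcon
    choose r hr using hcon
    have hr0 : ∀ T, r T ≠ 0 := fun T e => by simpa [e] using hr T
    have hinj : Function.Injective r := fun T T' e => by
      have h1 := hr T
      have h2 := hr T'
      rw [← e] at h2
      have h3 : (T' - T) * (r T * (r T - 2)) = 0 := by linear_combination h1 - h2
      rcases mul_eq_zero.mp h3 with h | h
      · exact (sub_eq_zero.mp h).symm
      · rcases mul_eq_zero.mp h with h | h
        · exact absurd h (hr0 T)
        · exfalso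
          rw [sub_eq_zero] at h
          have := hr T
          rw [h] at this
          exact one_ne_zero (by linear_combination this : (1 : ZMod p) = 0)
    obtain ⟨T, hT⟩ := (Finite.surjective_of_injective hinj) 0
    exact hr0 T hT
  set g : (ZMod p)[X] := X ^ 3 + C (-T) * X ^ 2 + C (2 * T - 3) * X + C (-1)
  have hg : g.Monic := by
    simp only [g]
    monicity!
  have hgd : g.natDegree = 3 := by
    simp only [g]
    compute_degree!
  have hirr : Irreducible g := by
    rw [hg.irreducible_iff_roots_eq_zero_of_degree_le_three (by omega) (by omega)]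
    refine Multiset.eq_zero_of_forall_notMem fun r hr => hT r ?_
    have := (mem_roots hg.ne_zero).mp hr
    simp only [g, IsRoot.def, eval_add, eval_mul, eval_pow, eval_X, eval_C] at this
    linear_combination this
  haveI := Fact.mk hirr
  haveI : Module.Finite (ZMod p) (AdjoinRoot g) := (AdjoinRoot.powerBasis hg.ne_zero).finite
  haveI : Finite (AdjoinRoot g) := Module.finite_of_finite (ZMod p)
  haveI := Fintype.ofFinite (AdjoinRoot g)
  have hcard : Fintype.card (AdjoinRoot g) = Fintype.card F := by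
    rw [hF, ← Nat.card_eq_fintype_card]
    rw [Module.natCard_eq_pow_finrank (K := ZMod p), Nat.card_zmod,
      (AdjoinRoot.powerBasis hg.ne_zero).finrank, AdjoinRoot.powerBasis_dim, hgd]
  let ι : AdjoinRoot g ≃+* F := FiniteField.ringEquivOfCardEq hcard
  set a := ι (AdjoinRoot.root g)
  set T' : F := ι (AdjoinRoot.of g T)
  have hga : a ^ 3 - T' * a ^ 2 + (2 * T' - 3) * a - 1 = 0 := by
    have h0 := congrArg ι (AdjoinRoot.eval₂_root g)
    simp only [g, eval₂_add, eval₂_mul, eval₂_pow, eval₂_X, eval₂_C] at h0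
    simp only [map_add, map_mul, map_pow, map_neg, map_sub, map_one, map_zero, map_ofNat] at h0
    linear_combination h0
  set Fr := frobenius F p
  have hT' : Fr T' = T' := by
    simp only [Fr, frobenius_def, T', ← map_pow]
    rw [show T ^ p = T from ZMod.pow_card T]
  have hroot : ∀ x : F, x ^ 3 - T' * x ^ 2 + (2 * T' - 3) * x - 1 = 0 →
      Fr x ^ 3 - T' * Fr x ^ 2 + (2 * T' - 3) * Fr x - 1 = 0 := fun x hx => by
    have := congrArg Fr hx
    simpa only [map_add, map_mul, map_pow, map_sub, map_one, map_zero, map_ofNat, hT'] using this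
  -- `a` is not in the prime field
  have hFa : Fr a ≠ a := by
    intro e
    have : ∃ r : ZMod p, ((ZMod.castHom dvd_rfl F) r) = a := by
      by_contra hcon
      push_neg at hcon
      have hsub : insert a (univ.image (ZMod.castHom (dvd_refl p) F)) ⊆
          (X ^ p - X : F[X]).roots.toFinset := by
        intro x hx
        rw [Multiset.mem_toFinset, mem_roots (FiniteField.X_pow_card_sub_X_ne_zero F hp.out.one_lt),
          IsRoot.def, eval_sub, eval_pow, eval_X, sub_eq_zero]
        rcases mem_insert.mp hx with rfl | hx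
        · exact e
        · obtain ⟨r, -, rfl⟩ := mem_image.mp hx
          rw [← map_pow, ZMod.pow_card]
      have := (card_le_card hsub).trans (Multiset.toFinset_card_le _) |>.trans (card_roots' _)
      rw [card_insert_of_notMem (fun h => by
          obtain ⟨r, -, hr⟩ := mem_image.mp h
          exact hcon r hr),
        card_image_of_injective _ (ZMod.castHom dvd_rfl F).injective,
        FiniteField.X_pow_card_sub_X_natDegree_eq F hp.out.one_lt, card_univ, ZMod.card] at this
      omega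
    obtain ⟨r, hr⟩ := this
    refine hT r ((ZMod.castHom dvd_rfl F).injective ?_)
    have hTT : T' = ZMod.castHom dvd_rfl F T :=
      RingHom.congr_fun (Subsingleton.elim (ι.toRingHom.comp (AdjoinRoot.of g)) (ZMod.castHom dvd_rfl F)) T
    simp only [map_add, map_mul, map_pow, map_sub, map_one, map_zero, map_ofNat, ← hTT, hr]
    exact hga
  set b := Fr a
  set c := Fr b
  have hc3 : Fr c = a := by
    simp only [c, b, Fr, frobenius_def, ← pow_mul]
    rw [show p * p * p = p ^ 3 by ring, ← hF, FiniteField.pow_card]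
  have hinjF : Function.Injective Fr := Fr.injective
  have hbc : b ≠ c := fun e => hFa (hinjF e).symm
  have hac : a ≠ c := fun e => by
    refine hFa ?_
    have h1 : Fr a = Fr c := congrArg Fr e
    rw [hc3] at h1
    exact h1
  have hab : a ≠ b := fun e => hFa e.symm
  have ha' := hga
  have hb' : b ^ 3 - T' * b ^ 2 + (2 * T' - 3) * b - 1 = 0 := hroot a hga
  have hc' : c ^ 3 - T' * c ^ 2 + (2 * T' - 3) * c - 1 = 0 := hroot b hb'
  have e1 : a ^ 2 + a * b + b ^ 2 - T' * (a + b) + (2 * T' - 3) = 0 :=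
    (mul_eq_zero.mp (show (a - b) * _ = 0 by linear_combination ha' - hb')).resolve_left (sub_ne_zero.mpr hab)
  have e2 : a ^ 2 + a * c + c ^ 2 - T' * (a + c) + (2 * T' - 3) = 0 :=
    (mul_eq_zero.mp (show (a - c) * _ = 0 by linear_combination ha' - hc')).resolve_left (sub_ne_zero.mpr hac)
  have eT : a + b + c = T' :=
    sub_eq_zero.mp ((mul_eq_zero.mp (show (b - c) * (a + b + c - T') = 0 by linear_combination e1 - e2)).resolve_left
      (sub_ne_zero.mpr hbc))
  have eS : a * b + b * c + c * a = 2 * T' - 3 := by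
    rw [← eT] at e1 ⊢
    linear_combination (-1 : F) * e1
  have hN : ∀ x : F, x ^ geomNat p 3 = x * Fr x * Fr (Fr x) := fun x => by
    simp only [geomNat, sum_range_succ, sum_range_zero, Fr, frobenius_def, ← pow_mul]
    rw [pow_add, pow_add, pow_add, pow_zero, one_mul, pow_zero, pow_one, pow_one, pow_two]
  refine ⟨a, fun e => hFa (show Fr a = a by rw [e, map_one]), ?_, ?_⟩
  · rw [hN]
    show a * b * c = 1
    linear_combination ha' + (a ^ 2) * (eT.symm) + a * eS
  · rw [hN, map_sub, map_sub, map_ofNat, map_ofNat]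
    show (2 - a) * (2 - b) * (2 - c) = 1
    have : a * b * c = 1 := by linear_combination ha' + (a ^ 2) * (eT.symm) + a * eS
    linear_combination (-4 : F) * eT + (2 : F) * eS - this

/-- A complex character bound gives `a ≠ 1` with `N a = N (2 - a) = 1` when `q ≥ 5`. -/
theorem exists_norm_pair_five [Fintype F] [CharP F p] [hp : Fact p.Prime] (h5 : 5 ≤ p) (hq : 5 ≤ q)
    (hF : Fintype.card F = p ^ q) :
    ∃ a : F, a ≠ 1 ∧ a ^ geomNat p q = 1 ∧ (2 - a) ^ geomNat p q = 1 := by
  classical
  set n := geomNat p q with hn_def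
  have hn1 : n * (p - 1) + 1 = p ^ q := (geomNat_mul p q).resolve_right hp.out.ne_zero
  have hnpos : 0 < n := geomNat_pos hp.out.pos (by omega)
  set U : Finset F := univ.filter fun x => x ^ n = 1
  have hUcard : U.card = n := by
    have hcyc : Fintype.card Fˣ = n * (p - 1) := by
      rw [Fintype.card_units, hF]; omega
    obtain ⟨g, hg⟩ := IsCyclic.exists_generator (α := Fˣ)
    have hog : orderOf g = n * (p - 1) := by
      rw [← hcyc, ← Nat.card_eq_fintype_card]; exact orderOf_eq_card_of_forall_mem_zpowers hg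
    have hp1 : 0 < p - 1 := by omega
    have hoh : orderOf ((g : F) ^ (p - 1)) = n := by
      rw [← Units.val_pow_eq_pow_val, orderOf_units, orderOf_pow' g hp1.ne', hog,
        Nat.gcd_eq_right (Dvd.intro_left n rfl), Nat.mul_div_cancel _ hp1]
    have hprim : IsPrimitiveRoot ((g : F) ^ (p - 1)) n := hoh ▸ IsPrimitiveRoot.orderOf _
    have hU' : U = nthRootsFinset n (1 : F) := by
      ext x
      simp [U, mem_nthRootsFinset hnpos]
    rw [hU', hprim.card_nthRootsFinset]
  by_contra hcon
  push_neg at hcon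
  have hU0 : ∀ u ∈ U, u ≠ 0 := fun u hu e => by
    have := (mem_filter.mp hu).2
    rw [e, zero_pow hnpos.ne'] at this
    exact zero_ne_one this
  set S : AddChar F ℂ → ℂ := fun χ => ∑ u ∈ U, χ u
  -- orthogonality
  have horth : ∑ χ : AddChar F ℂ, S χ * S χ * χ (-2) = (Fintype.card F : ℂ) := by
    have hexp : ∀ χ : AddChar F ℂ, S χ * S χ * χ (-2) = ∑ u ∈ U, ∑ v ∈ U, χ u * χ v * χ (-2) := fun χ => by
      simp only [S]
      rw [sum_mul_sum]
      simp only [sum_mul]
    rw [sum_congr rfl (fun χ _ => hexp χ), sum_comm]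
    have hterm : ∀ u v : F, ∑ χ : AddChar F ℂ, χ u * χ v * χ (-2) =
        if u + v + -2 = 0 then (Fintype.card F : ℂ) else 0 := fun u v => by
      simp_rw [← AddChar.map_add_eq_mul]
      exact AddChar.sum_apply_eq_ite _
    have honly : ∀ u ∈ U, ∀ v ∈ U, (u + v + -2 = 0 ↔ u = 1 ∧ v = 1) := fun u hu v hv => by
      constructor
      · intro h
        have hv' : v = 2 - u := by linear_combination h
        have hu1 : u = 1 := by
          by_contra hu1
          exact hcon u hu1 (mem_filter.mp hu).2 (hv' ▸ (mem_filter.mp hv).2)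
        exact ⟨hu1, by rw [hv', hu1]; norm_num⟩
      · rintro ⟨rfl, rfl⟩; norm_num
    have h1U : (1 : F) ∈ U := mem_filter.mpr ⟨mem_univ _, one_pow _⟩
    rw [sum_eq_single (1 : F) ?_ fun h => absurd h1U h]
    · rw [sum_comm, sum_eq_single (1 : F) ?_ fun h => absurd h1U h]
      · rw [hterm, if_pos ((honly 1 h1U 1 h1U).mpr ⟨rfl, rfl⟩)]
      · intro v hv hv1
        rw [hterm, if_neg fun h => hv1 ((honly 1 h1U v hv).mp h).2]
    · intro u hu hu1
      rw [sum_comm]
      refine sum_eq_zero fun v hv => ?_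
      rw [hterm, if_neg fun h => hu1 ((honly u hu v hv).mp h).1]
  have hpars : ∑ χ : AddChar F ℂ, ‖S χ‖ ^ 2 = (Fintype.card F : ℝ) * n := by
    have hC : ∑ χ : AddChar F ℂ, ((‖S χ‖ : ℂ)) ^ 2 = ((Fintype.card F : ℝ) * n : ℝ) := by
      simp_rw [← Complex.mul_conj', S, map_sum, ← AddChar.map_neg_eq_conj, sum_mul_sum,
        ← AddChar.map_add_eq_mul]
      rw [sum_comm]
      rw [sum_congr rfl fun u _ => sum_comm (s := univ) (t := U)]
      simp_rw [AddChar.sum_apply_eq_ite, add_neg_eq_zero]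
      rw [sum_congr rfl fun u hu => by rw [sum_ite_eq, if_pos hu], sum_const, hUcard]
      push_cast
      ring
    exact_mod_cast hC
  -- multiplication by `U` permutes the characters and fixes `S`
  let e : F → AddChar F ℂ → AddChar F ℂ := fun u χ => χ.mulShift u
  have hS : ∀ u ∈ U, ∀ χ, S (e u χ) = S χ := fun u hu χ => by
    simp only [S, e, AddChar.mulShift_apply]
    refine sum_bij' (fun v _ => u * v) (fun v _ => u⁻¹ * v) ?_ ?_ ?_ ?_ fun _ _ => rfl
    · intro v hv
      exact mem_filter.mpr ⟨mem_univ _, by rw [mul_pow, (mem_filter.mp hu).2, (mem_filter.mp hv).2, one_mul]⟩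
    · intro v hv
      exact mem_filter.mpr ⟨mem_univ _, by
        rw [mul_pow, inv_pow, (mem_filter.mp hu).2, (mem_filter.mp hv).2, inv_one, one_mul]⟩
    · intro v _; exact inv_mul_cancel_left₀ (hU0 u hu) v
    · intro v _; exact mul_inv_cancel_left₀ (hU0 u hu) v
  have hbij : ∀ u ∈ U, Function.Bijective (e u) := fun u hu =>
    Function.bijective_iff_has_inverse.mpr ⟨e u⁻¹, fun χ => by
      ext x; simp [e, AddChar.mulShift_apply, mul_inv_cancel_left₀ (hU0 u hu)], fun χ => by
      ext x; simp [e, AddChar.mulShift_apply, inv_mul_cancel_left₀ (hU0 u hu)]⟩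
  have hS1 : S 0 = n := by simp [S, hUcard]
  set K : ℝ := (p : ℝ) ^ q with hK
  have hKF : (Fintype.card F : ℝ) = K := by rw [hF, hK]; push_cast; rfl
  set M := Real.sqrt K
  have hbound : ∀ χ : AddChar F ℂ, χ ≠ 0 → ‖S χ‖ ≤ M := fun χ hχ => by
    refine Real.le_sqrt_of_sq_le ?_
    have hsub : (U.image fun u => e u χ) ⊆ univ := subset_univ _
    have hinj : Set.InjOn (fun u => e u χ) U := fun u _ v _ h => by
      by_contra huv
      obtain ⟨x, hx⟩ := AddChar.ne_zero_iff.mp hχ
      refine hx ?_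
      have := DFunLike.congr_fun h ((u - v)⁻¹ * x)
      simp only [e, AddChar.mulShift_apply] at this
      have h2 : (u - v) * ((u - v)⁻¹ * x) = x := mul_inv_cancel_left₀ (sub_ne_zero.mpr huv) x
      rw [← h2, sub_mul, AddChar.map_sub_eq_div, this, div_self (AddChar.val_isUnit χ _).ne_zero]
    have := sum_le_sum_of_subset_of_nonneg (f := fun χ => ‖S χ‖ ^ 2) hsub fun _ _ _ => sq_nonneg _
    rw [hpars, hKF, sum_image hinj, sum_congr rfl (fun u hu => by rw [hS u hu χ]), sum_const, hUcard,
      nsmul_eq_mul, mul_comm K] at this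
    exact le_of_mul_le_mul_left this (Nat.cast_pos.mpr hnpos)
  -- average over `U`
  set T : ℂ := ∑ χ ∈ univ.erase (0 : AddChar F ℂ), S χ * S χ * χ (-2)
  have hT : T = (Fintype.card F : ℂ) - (n : ℂ) * n := by
    rw [← horth, ← add_sum_erase univ _ (mem_univ (0 : AddChar F ℂ)), hS1]
    simp [T]
  have h2 : (-2 : F) ≠ 0 := by
    rw [neg_ne_zero]
    intro h
    have := (CharP.cast_eq_zero_iff F p 2).mp (by exact_mod_cast h)
    have := Nat.le_of_dvd two_pos this
    omega
  have havg : (n : ℂ) * T = ∑ χ ∈ univ.erase (0 : AddChar F ℂ), S χ * S χ * ∑ u ∈ U, χ (u * -2) := by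
    have hu : ∀ u ∈ U, T = ∑ χ ∈ univ.erase (0 : AddChar F ℂ), S χ * S χ * χ (u * -2) := fun u hu => by
      refine (sum_bijective (e u) (hbij u hu) (fun χ => ?_) fun χ _ => ?_).symm
      · simp only [mem_erase, mem_univ, and_true, ne_eq]
        have he0 : e u 0 = 0 := by ext x; simp [e, AddChar.mulShift_apply]
        exact not_congr ⟨fun h => h ▸ he0, fun h => (hbij u hu).1 (h.trans he0.symm)⟩
      · simp only [hS u hu χ]
        simp [e, AddChar.mulShift_apply]
    rw [← hUcard, ← nsmul_eq_mul, ← sum_const, sum_congr rfl hu, sum_comm]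
    exact sum_congr rfl fun χ _ => (mul_sum _ _ _).symm
  have hTle : (n : ℝ) * ‖T‖ ≤ M * (K * n) := by
    rw [show (n : ℝ) * ‖T‖ = ‖(n : ℂ) * T‖ by simp, havg]
    refine (norm_sum_le _ _).trans ?_
    calc ∑ χ ∈ univ.erase (0 : AddChar F ℂ), ‖S χ * S χ * ∑ u ∈ U, χ (u * -2)‖
        ≤ ∑ χ ∈ univ.erase (0 : AddChar F ℂ), M * ‖S χ‖ ^ 2 := by
          refine sum_le_sum fun χ hχ => ?_
          have hshift : ∑ u ∈ U, χ (u * -2) = S (χ.mulShift (-2)) := by
            simp [S, AddChar.mulShift_apply, mul_comm]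
          have hne : χ.mulShift (-2) ≠ 0 := by
            obtain ⟨x, hx⟩ := AddChar.ne_zero_iff.mp (ne_of_mem_erase hχ)
            exact AddChar.ne_zero_iff.mpr ⟨(-2)⁻¹ * x, by
              rw [AddChar.mulShift_apply, mul_inv_cancel_left₀ h2]; exact hx⟩
          rw [norm_mul, norm_mul, hshift, ← sq, mul_comm]
          exact mul_le_mul_of_nonneg_right (hbound _ hne) (sq_nonneg _)
      _ ≤ M * ∑ χ : AddChar F ℂ, ‖S χ‖ ^ 2 := by
          rw [← mul_sum]
          exact mul_le_mul_of_nonneg_left (sum_le_sum_of_subset_of_nonneg (subset_univ _) fun _ _ _ => sq_nonneg _)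
            (Real.sqrt_nonneg _)
      _ = M * (K * n) := by rw [hpars, hKF]
  have hnR : (0 : ℝ) < n := by exact_mod_cast hnpos
  have hTM : ‖T‖ ≤ M * K := le_of_mul_le_mul_left (by linarith [hTle] : (n : ℝ) * ‖T‖ ≤ n * (M * K)) hnR
  have hlow : (n : ℝ) * n - K ≤ ‖T‖ := by
    rw [hT, norm_sub_rev]
    refine le_trans (le_of_eq ?_) (norm_sub_norm_le _ _)
    simp [hKF]
  -- numerical contradiction
  have h2p : (2 : ℝ) ≤ p := by exact_mod_cast hp.out.two_le
  have hM : M ≤ (p : ℝ) ^ (q - 2) / 2 := by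
    refine Real.sqrt_le_iff.mpr ⟨by positivity, ?_⟩
    rw [div_pow, le_div_iff₀ (by norm_num), ← pow_mul, hK]
    rcases Nat.lt_or_ge q 6 with h6 | h6
    · have : q = 5 := by omega
      subst this
      norm_num
      have hp5 : (5 : ℝ) ≤ p := by exact_mod_cast h5
      nlinarith [pow_nonneg (show (0 : ℝ) ≤ p by positivity) 5]
    · calc (p : ℝ) ^ q * (2 : ℝ) ^ 2 ≤ (p : ℝ) ^ q * (p : ℝ) ^ 2 :=
            mul_le_mul_of_nonneg_left (pow_le_pow_left₀ (by norm_num) h2p 2) (by positivity)
        _ = (p : ℝ) ^ (q + 2) := (pow_add _ _ _).symm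
        _ ≤ (p : ℝ) ^ ((q - 2) * 2) := pow_le_pow_right₀ (by exact_mod_cast hp.out.one_le) (by omega)
  have hn2 : (p : ℝ) ^ (q - 1) ≤ n := by
    have : p ^ (q - 1) ≤ n := single_le_sum (f := fun i => p ^ i) (fun _ _ => Nat.zero_le _) (mem_range.mpr (by omega))
    exact_mod_cast this
  have hp5 : (5 : ℝ) ≤ p := by exact_mod_cast h5
  have hK2 : (p : ℝ) ^ (q - 1) * (p : ℝ) ^ (q - 1) = K * (p : ℝ) ^ (q - 2) := by
    rw [hK, ← pow_add, ← pow_add]; congr 1; omega
  have hKpos : 0 < K := by positivity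
  have h25 : (25 : ℝ) ≤ (p : ℝ) ^ (q - 2) :=
    calc (25 : ℝ) = 5 ^ 2 := by norm_num
      _ ≤ (p : ℝ) ^ 2 := pow_le_pow_left₀ (by norm_num) hp5 2
      _ ≤ (p : ℝ) ^ (q - 2) := pow_le_pow_right₀ (by linarith) (by omega)
  have h1 : K * (p : ℝ) ^ (q - 2) ≤ (n : ℝ) * n := hK2 ▸ mul_le_mul hn2 hn2 (by positivity) (by positivity)
  have h2' : M * K ≤ (p : ℝ) ^ (q - 2) / 2 * K := mul_le_mul_of_nonneg_right hM hKpos.le
  nlinarith [mul_le_mul_of_nonneg_left h25 hKpos.le]

end Cfsg.Lib.Local.AppC
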