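import Cfsg.Agent.Lib.Local.AppC.Reduce

/-!
The conclusion `p ≤ q`.
-/

set_option autoImplicit false
set_option linter.style.haveILetI false

namespace Cfsg.Lib.Local.AppC

/-- A configuration cannot exist for `q < p`. -/
theorem Cfg.le {p q : ℕ} [hp : Fact p.Prime] {G : Type*} [Group G] [Finite G] {F : Type*} [Field F] [Fintype F]
    [CharP F p] (c : Cfg p q G F) (hq2 : q ≠ 2) : p ≤ q := by
  have hq3 : 3 ≤ q := by have := c.hq.two_le; omega
  obtain ⟨a, ha1, ha, ha2⟩ : ∃ a : F, a ≠ 1 ∧ a ^ geomNat p q = 1 ∧ (2 - a) ^ geomNat p q = 1 := by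
    rcases Nat.lt_or_ge q 4 with h | h
    · obtain rfl : q = 3 := by omega
      exact exists_norm_pair_three c.five c.card_F
    · have h4 : q ≠ 4 := fun e => by
        have := c.hq
        rw [e] at this
        norm_num at this
      exact exists_norm_pair_five c.five (by omega) c.card_F
  exact le_of_inv_closed c.hq.pos (fun x hx hx2 => c.E_inv hx hx2) ha1 ha ha2

end Cfsg.Lib.Local.AppC
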