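import Cfsg.Agent.Lib.Local.AppC.Target

/-!
Removing the fixed points of `s` from the abelian group `Q`.
-/

set_option autoImplicit false
set_option linter.style.haveILetI false

namespace Cfsg.Lib.Local.AppC

/-- An abelian `p'`-group normalized by an element `s` with `s ^ p = 1` contains a subgroup without fixed
points of `s`, still normalized by `s`, such that every element of the group differs from an element
of the subgroup by a fixed point. -/
theorem exists_fixed_point_free {G : Type*} [Group G] [Finite G] {p : ℕ} (hp : p.Prime) (Q : Subgroup G)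
    (hQ : ∀ a ∈ Q, ∀ b ∈ Q, a * b = b * a) (hco : (Nat.card Q).Coprime p) {s : G}
    (hs : s ∈ Subgroup.normalizer (Q : Set G)) (hsp : s ^ p = 1) {y : G} (hy : y ∈ Q) :
    ∃ Q' : Subgroup G, Q' ≤ Q ∧ s ∈ Subgroup.normalizer (Q' : Set G) ∧
      (∀ x ∈ Q', s * x = x * s → x = 1) ∧ ∃ y' ∈ Q', y * s * y⁻¹ = y' * s * y'⁻¹ := by
  letI : CommGroup Q := { (inferInstance : Group Q) with mul_comm := fun a b => Subtype.ext (hQ a a.2 b b.2) }
  let T : Q →* Q :=
    { toFun := fun x => ⟨s * x * s⁻¹, (Subgroup.mem_normalizer_iff.mp hs _).mp x.2⟩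
      map_one' := Subtype.ext (by simp)
      map_mul' := fun a b => Subtype.ext (by simp [mul_assoc]) }
  have hTcoe : ∀ x : Q, (T x : G) = s * x * s⁻¹ := fun x => rfl
  let d : Q →* Q :=
    { toFun := fun x => x / T x
      map_one' := by simp
      map_mul' := fun a b => by rw [map_mul, mul_div_mul_comm] }
  have hd : ∀ x : Q, d x = x / T x := fun x => rfl
  let I : ℕ → Q → Q := fun i => T^[i]
  have hIcoe : ∀ (i : ℕ) (x : Q), (I i x : G) = s ^ i * x * (s ^ i)⁻¹ := by
    intro i
    induction i with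
    | zero => intro x; simp [I]
    | succ i ih =>
      intro x
      show ((T^[i + 1] x : Q) : G) = _
      rw [Function.iterate_succ_apply', hTcoe, show ((T^[i] x : Q) : G) = _ from ih x, pow_succ']
      group
  have hIp : ∀ x : Q, I p x = x := fun x => Subtype.ext (by rw [hIcoe, hsp]; simp)
  have hI0 : ∀ x : Q, I 0 x = x := fun x => rfl
  have hIs : ∀ (i : ℕ) (x : Q), T (I i x) = I (i + 1) x := fun i x => (Function.iterate_succ_apply' T i x).symm
  have hIT : ∀ (i : ℕ) (x : Q), I i (T x) = I (i + 1) x := fun i x => (Function.iterate_succ_apply T i x).symm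
  -- `x / T^i x` lies in the image of `d`
  have hrange : ∀ (i : ℕ) (x : Q), x / I i x ∈ d.range := by
    intro i x
    induction i with
    | zero => rw [hI0, div_self']; exact one_mem _
    | succ i ih =>
      rw [← hIs, show x / T (I i x) = (x / I i x) * (I i x / T (I i x)) from (div_mul_div_cancel _ _ _).symm]
      exact mul_mem ih ⟨_, hd _⟩
  have hIhom : ∀ (i : ℕ) (a b : Q), I i (a / b) = I i a / I i b := fun i a b => by
    induction i with
    | zero => rfl
    | succ i ih => rw [← hIs, ih, map_div, hIs, hIs]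
  set Q' : Subgroup G := d.range.map Q.subtype
  have hQ' : Q' ≤ Q := by
    rintro _ ⟨x, -, rfl⟩
    exact x.2
  have hTQ' : ∀ i : ℕ, ∀ x ∈ Q', s ^ i * x * (s ^ i)⁻¹ ∈ Q' := by
    rintro i _ ⟨_, ⟨x, rfl⟩, rfl⟩
    refine ⟨d (I i x), ⟨_, rfl⟩, ?_⟩
    rw [Subgroup.coe_subtype, ← hIcoe, hd, hd, hIhom, hIT, hIs]
  refine ⟨Q', hQ', ?_, ?_, ?_⟩
  · refine Subgroup.mem_normalizer_iff.mpr fun x => ⟨fun hx => by simpa using hTQ' 1 x hx, fun hx => ?_⟩
    have h := hTQ' (p - 1) _ hx
    have hsx : s ^ (p - 1) = s⁻¹ := eq_inv_of_mul_eq_one_left (by rw [← pow_succ, Nat.sub_add_cancel hp.one_le, hsp])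
    rw [hsx] at h
    simpa [mul_assoc] using h
  · rintro _ ⟨_, ⟨w, rfl⟩, rfl⟩ hcomm
    set x : Q := d w
    have hfix : ∀ i, I i x = x := by
      intro i
      induction i with
      | zero => rfl
      | succ i ih =>
        rw [← hIs, ih]
        refine Subtype.ext ?_
        rw [hTcoe]
        have hcomm' : s * (x : G) = (x : G) * s := hcomm
        rw [hcomm', mul_inv_cancel_right]
    have h1 : ∏ i ∈ Finset.range p, I i x = x ^ p := by
      rw [Finset.prod_congr rfl fun i _ => hfix i, Finset.prod_const, Finset.card_range]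
    have h2 : ∏ i ∈ Finset.range p, I i x = 1 := by
      rw [Finset.prod_congr rfl fun i _ => show I i x = I i w / I (i + 1) w by
        show I i (d w) = _
        rw [hd, hIhom, hIT],
        Finset.prod_range_div', hI0, hIp, div_self']
    have hx1 : x = 1 := orderOf_eq_one_iff.mp (Nat.eq_one_of_dvd_coprimes hco (orderOf_dvd_natCard x)
      (orderOf_dvd_of_pow_eq_one (h1.symm.trans h2)))
    rw [Subgroup.coe_subtype, hx1, Subgroup.coe_one]
  · set z : Q := ∏ i ∈ Finset.range p, I i ⟨y, hy⟩
    set y0 : Q := ⟨y, hy⟩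
    have hz : y0 ^ p / z ∈ d.range := by
      rw [show y0 ^ p = ∏ _i ∈ Finset.range p, y0 by rw [Finset.prod_const, Finset.card_range],
        ← Finset.prod_div_distrib]
      exact prod_mem fun i _ => hrange i y0
    have hTz : T z = z := by
      rw [map_prod, Finset.prod_congr rfl fun i _ => hIs i y0]
      have h1 := Finset.prod_range_succ' (fun i => I i y0) p
      rw [Finset.prod_range_succ, hIp, hI0] at h1
      exact (mul_right_cancel h1).symm
    obtain ⟨m, -, hm⟩ : ∃ m, m < Nat.card Q + 1 ∧ y0 ^ (p * m) = y0 := by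
      rcases Nat.lt_or_ge 1 (Nat.card Q) with h | h
      · obtain ⟨m, hm, hm'⟩ := Nat.exists_mul_mod_eq_one_of_coprime hco.symm h
        refine ⟨m, by omega, ?_⟩
        rw [← Nat.mod_add_div (p * m) (Nat.card Q), hm', pow_add, pow_mul, pow_card_eq_one', one_pow, mul_one, pow_one]
      · haveI : Subsingleton Q := Finite.card_le_one_iff_subsingleton.mp h
        exact ⟨0, by omega, Subsingleton.elim _ _⟩
    have hy' : (y0 ^ p / z) ^ m ∈ d.range := pow_mem hz m
    refine ⟨(((y0 ^ p / z) ^ m : Q) : G), ⟨_, hy', rfl⟩, ?_⟩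
    have hdec : y0 = (y0 ^ p / z) ^ m * z ^ m := by
      rw [← mul_pow, div_mul_cancel, ← pow_mul, hm]
    have hc : (z ^ m : Q).1 * s = s * (z ^ m : Q).1 := by
      have h1 : T (z ^ m) = z ^ m := by rw [map_pow, hTz]
      have h2 := congrArg (Subtype.val) h1
      rw [hTcoe] at h2
      exact (mul_inv_eq_iff_eq_mul.mp h2).symm
    have hy2 : y = (((y0 ^ p / z) ^ m : Q) : G) * ((z ^ m : Q) : G) := congrArg Subtype.val hdec
    set a : G := (((y0 ^ p / z) ^ m : Q) : G)
    set b : G := ((z ^ m : Q) : G)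
    rw [hy2, show a * b * s * (a * b)⁻¹ = a * (b * s) * b⁻¹ * a⁻¹ by group, hc]
    group

end Cfsg.Lib.Local.AppC
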