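import Cfsg.Agent.Lib.Local.AppC.Collapse

/-!
The set `E` of norm-one elements `a` with `2 - a` of norm one is closed under inversion in the
configuration of Bender-Glauberman, Appendix C; hence `p ≤ q`.
-/

set_option autoImplicit false
set_option linter.style.haveILetI false

namespace Cfsg.Lib.Local.AppC.Cfg

variable {p q : ℕ} [hp : Fact p.Prime] {G : Type*} [Group G] [Finite G] {F : Type*} [Field F] [Fintype F]
  [CharP F p] (c : Cfg p q G F)

include c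

omit hp [Finite G] [CharP F p] in
theorem em_congr {x x' : c.A} {z z' : ℤ} (hx : x = x') (hz : (z : F) = (z' : F)) : c.em x z = c.em x' z' := by
  simp only [em, hx, s, hz]

/-- `t^b s^k t^(-b)`. -/
def M (b k : ℤ) : G := c.t b * c.s k * c.t (-b)

omit hp [Finite G] [CharP F p] in
theorem M_eq (b k : ℤ) : c.M b k = c.em (c.D b (c.D k c.yA)) k := by
  rw [M, c.t_eq, c.t_eq, c.s_eq, c.em_mul, c.em_mul]
  refine c.em_congr ?_ (by push_cast; ring)
  simp only [D_apply, map_sub, map_zero, T_T]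
  rw [show b + k + -b = k by ring]
  abel

theorem t_eq_iff_of_sim {l l' : ℤ} (hl : (l : F) ≠ 0) {i j : ℤ} (h : c.t l' = c.s i * c.t l * c.s j) :
    (l : F) = (l' : F) := by
  obtain ⟨u, hu⟩ := c.exists_ne_one
  have hμ : 1 - c.ψ u ≠ 0 := sub_ne_zero.mpr fun e => hu (c.ψ_inj (by rw [map_one]; exact e.symm))
  -- push an element of `U` through
  set w := c.σ (-l') u
  have e1 : c.t l * (c.s j * w * (c.s j)⁻¹) * (c.t l)⁻¹ = (c.s i)⁻¹ * u * c.s i := by
    have hw : c.t l' * w * (c.t l')⁻¹ = (u : G) := by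
      rw [← c.coe_σ]; simp [w, σ_σ]
    rw [← hw, h]; group
  have hL : (c.s i)⁻¹ * u * c.s i ∈ c.Dg (c.t l) := by
    refine c.mem_Dg.mpr ⟨mul_mem (mul_mem (inv_mem (c.s_mem i)) (c.U_mem u)) (c.s_mem i), ?_⟩
    rw [← e1, show (c.t l)⁻¹ * (c.t l * (c.s j * w * (c.s j)⁻¹) * (c.t l)⁻¹) * c.t l = c.s j * w * (c.s j)⁻¹ by group]
    exact mul_mem (mul_mem (c.s_mem j) (c.U_mem w)) (inv_mem (c.s_mem j))
  rw [c.coe_U u, c.s_el, c.el_inv, c.el_mul, c.el_mul] at hL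
  have hi := c.t_inter hl hL
  simp only [map_one, inv_one, one_mul, mul_one, div_one, add_zero] at hi
  have hi0 : (i : F) = 0 := by
    refine (mul_eq_zero.mp (show (i : F) * (1 - c.ψ u) = 0 by linear_combination -hi)).resolve_right hμ
  have hsi : c.s i = 1 := by rw [s, hi0, c.tr_zero]
  have hx := (c.em_inj (x := c.D l' c.yA) (z := l') (x' := c.D l c.yA + c.T l 0) (z' := l + j) (by
    rw [← c.t_eq, h, hsi, one_mul, c.t_eq l, c.s_eq j, c.em_mul])).1
  rw [map_zero, add_zero] at hx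
  by_contra hne
  have h0 : c.D (l - l') c.yA = 0 := by
    simp only [D_apply, sub_right_inj] at hx
    have := congrArg (c.T (-l')) hx
    rw [c.T_T, c.T_T, neg_add_cancel, c.T_zero] at this
    rw [D_apply, sub_eq_zero, show l - l' = -l' + l by ring]
    exact this
  exact c.yA_ne (c.D_inj (by push_cast; exact sub_ne_zero.mpr hne) h0)

/-- The double cosets `P₀ (t s^k t⁻¹) P₀` are distinct. -/
theorem M_sim {k k' : ℤ} (hk : (k : F) ≠ 0) (h : c.Sim (c.M 1 k) (c.M 1 k')) : (k : F) = (k' : F) := by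
  obtain ⟨i, j, hij⟩ := h
  rw [c.M_eq, c.M_eq, c.s_eq, c.s_eq, c.em_mul, c.em_mul] at hij
  obtain ⟨hx, hz⟩ := c.em_inj hij
  simp only [map_zero, add_zero, zero_add] at hx
  have hT : c.T i (c.D k c.yA) = c.D k' c.yA := by
    refine sub_eq_zero.mp (c.D_inj (z := 1) (by simp) ?_)
    rw [map_sub, hx]
    simp only [D_apply, map_sub, T_T]
    ring_nf
    abel
  refine c.t_eq_iff_of_sim hk (i := i) (j := k' - k - i) ?_
  rw [c.t_eq, c.t_eq, c.s_eq, c.s_eq, c.em_mul, c.em_mul]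
  exact c.em_congr (by simp [hT]) (by push_cast; ring)

omit hp [Finite G] [CharP F p] in
theorem M_neg (k : ℤ) : c.Sim (c.M 1 (-k)) (c.M (-1) k) := by
  refine ⟨k - 1, k + 1, ?_⟩
  rw [c.M_eq, c.M_eq, c.s_eq, c.s_eq, c.em_mul, c.em_mul]
  refine c.em_congr ?_ (by push_cast; ring)
  simp only [D_apply, map_sub, map_zero, T_T, zero_add, add_zero]
  ring_nf
  simp [T_zero]
  abel

/-- An expression `t^2 = s^j t s^(-k) t s^i` forces `i c = j c'` for the classes `c`, `c'` of `1 - u`,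
`1 - t^2 u t⁻²`. -/
theorem family {i j k : ℤ} (hi : (i : F) ≠ 0) (hrel : c.t 2 = c.s j * c.t 1 * c.s (-k) * c.t 1 * c.s i)
    {u w w' : c.U} {d d' : ℤ} (hd : (d : F) ≠ 0) (hu : 1 - c.ψ u = d * c.ψ w)
    (hu' : 1 - c.ψ (c.σ 2 u) = d' * c.ψ w') : ((i * d : ℤ) : F) = ((j * d' : ℤ) : F) := by
  -- the relation, for any `u`
  have rel : ∀ u w w' : c.U, 1 - c.ψ u = d * c.ψ w → 1 - c.ψ (c.σ 2 u) = d' * c.ψ w' →
      c.el (c.ψ (c.σ (-1) w'⁻¹) * ((-k : ℤ) : F)) (c.σ (-1) w'⁻¹ * c.σ 1 w) * c.M 1 (i * d) *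
        c.el (c.ψ (c.σ 1 (w⁻¹ * u)) * (k : F)) (c.σ 1 (w⁻¹ * u) * c.σ (-1) (w'⁻¹ * c.σ 2 u)⁻¹) =
          c.M (-1) (-(j * d')) := by
    intro u w w' hu hu'
    have hel : ∀ (a b : c.U) (z : ℤ), c.el (c.ψ a * (z : F)) (a * b) = (a : G) * c.s z * b := fun a b z => by
      rw [el, c.mul_tr a (z : F) |> fun h => (h : (a : G) * c.s z = _), Subgroup.coe_mul, mul_assoc]
    rw [hel, hel]
    have hh : c.s i * u * (c.s i)⁻¹ = (w : G) * c.s (i * d) * (w⁻¹ * u : c.U) := by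
      rw [c.coe_U u, c.coe_U w, c.coe_U (w⁻¹ * u), c.s_el, c.s_el, c.el_inv, c.el_mul, c.el_mul, c.el_mul, c.el_mul]
      simp only [map_one, inv_one, one_mul, mul_one, div_one, add_zero, mul_zero, zero_add, mul_inv_cancel_left]
      congr 1
      push_cast
      linear_combination (i : F) * hu
    have hh' : (c.s j)⁻¹ * (c.σ 2 u : G) * c.s j = (w' : G) * c.s (-(j * d')) * (w'⁻¹ * c.σ 2 u : c.U) := by
      rw [c.coe_U (c.σ 2 u), c.coe_U w', c.coe_U (w'⁻¹ * c.σ 2 u), c.s_el, c.s_el, c.el_inv, c.el_mul, c.el_mul,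
        c.el_mul, c.el_mul]
      simp only [map_one, inv_one, one_mul, mul_one, div_one, add_zero, mul_zero, zero_add, mul_inv_cancel_left]
      congr 1
      push_cast
      linear_combination -(j : F) * hu'
    have h2 : c.t 1 * (c.s i * u * (c.s i)⁻¹) * (c.t 1)⁻¹ =
        c.s k * (c.t 1)⁻¹ * ((c.s j)⁻¹ * (c.σ 2 u : G) * c.s j) * c.t 1 * (c.s k)⁻¹ := by
      rw [c.coe_σ, hrel, c.s_neg]; group
    rw [hh, hh'] at h2
    have l1 : c.t 1 * ((w : G) * c.s (i * d) * (w⁻¹ * u : c.U)) * (c.t 1)⁻¹ =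
        (c.σ 1 w : G) * c.M 1 (i * d) * c.σ 1 (w⁻¹ * u) := by
      rw [c.coe_σ, c.coe_σ, M, c.t_neg]; group
    have l2 : (c.t 1)⁻¹ * ((w' : G) * c.s (-(j * d')) * (w'⁻¹ * c.σ 2 u : c.U)) * c.t 1 =
        (c.σ (-1) w' : G) * c.M (-1) (-(j * d')) * c.σ (-1) (w'⁻¹ * c.σ 2 u) := by
      rw [c.coe_σ, c.coe_σ, M, c.t_neg, neg_neg, inv_inv]; group
    rw [l1, mul_assoc (c.s k) (c.t 1)⁻¹, mul_assoc (c.s k) _ (c.t 1), l2] at h2
    rw [map_inv, map_inv, Subgroup.coe_inv, Subgroup.coe_inv, c.s_neg,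
      show ((c.σ (-1) w' : c.U) : G)⁻¹ * (c.s k)⁻¹ * (c.σ 1 w : G) * c.M 1 (i * d) *
        ((c.σ 1 (w⁻¹ * u) : G) * c.s k * ((c.σ (-1) (w'⁻¹ * c.σ 2 u) : c.U) : G)⁻¹) =
        ((c.σ (-1) w' : c.U) : G)⁻¹ * (c.s k)⁻¹ * ((c.σ 1 w : G) * c.M 1 (i * d) * c.σ 1 (w⁻¹ * u)) *
          c.s k * ((c.σ (-1) (w'⁻¹ * c.σ 2 u) : c.U) : G)⁻¹ by group, h2]
    group
  have hid : ((i * d : ℤ) : F) ≠ 0 := by push_cast; exact mul_ne_zero hi hd
  have hx : c.D 1 (c.D (i * d) c.yA) ≠ 0 := fun e => c.D_yA_ne hid (c.D_inj (by simp) e)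
  have h0 := rel u w w' hu hu'
  have hx' : c.D (-1) (c.D (-(j * d')) c.yA) ≠ 0 := by
    intro e
    have hM' : c.M (-1) (-(j * d')) ∈ c.H := by
      rw [c.M_eq, e, ← c.s_eq]; exact c.s_mem _
    refine hx (c.em_mem_H (z := i * d) ?_)
    have hMeq := eq_inv_mul_of_mul_eq (eq_mul_inv_of_mul_eq h0)
    rw [← c.M_eq, hMeq]
    exact mul_mem (inv_mem (c.el_mem _ _)) (mul_mem hM' (inv_mem (c.el_mem _ _)))
  have hsim : c.Sim (c.M 1 (i * d)) (c.M (-1) (-(j * d'))) := by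
    rw [c.M_eq 1, c.M_eq (-1)]
    refine c.collapse hx hx' (v := c.ψ (c.σ (-1) w'⁻¹) * ((-k : ℤ) : F)) (u := c.σ (-1) w'⁻¹ * c.σ 1 w)
      (v' := c.ψ (c.σ 1 (w⁻¹ * u)) * (k : F)) (u' := c.σ 1 (w⁻¹ * u) * c.σ (-1) (w'⁻¹ * c.σ 2 u)⁻¹) fun a => ?_
    rw [← c.M_eq 1, ← c.M_eq (-1)]
    have := rel (u ^ p ^ a) (w ^ p ^ a) (w' ^ p ^ a)
      (by have e := congrArg (c.Φ a) hu
          rwa [map_sub, map_one, map_mul, map_intCast, c.Φ_ψ, c.Φ_ψ] at e)
      (by have e := congrArg (c.Φ a) hu'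
          rw [map_pow]
          rwa [map_sub, map_one, map_mul, map_intCast, c.Φ_ψ, c.Φ_ψ] at e)
    have hP : ∀ x y : c.U, x ^ p ^ a * y ^ p ^ a = (x * y) ^ p ^ a := fun x y =>
      (Commute.mul_pow (c.U_comm x y) _).symm
    have hσ : ∀ (z : ℤ) (x : c.U), c.σ z (x ^ p ^ a) = (c.σ z x) ^ p ^ a := fun z x => map_pow (c.σ z) x _
    simp only [← inv_pow, hP, hσ] at this
    simp only [map_mul (c.Φ a), map_intCast, c.Φ_ψ]
    exact this
  have h := c.M_sim hid (Sim.trans c hsim (Sim.symm c (c.M_neg (-(j * d')))))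
  rwa [neg_neg] at h

omit hp [Finite G] [CharP F p] in
theorem braid (a b : ℤ) : c.t b * c.s a * c.t (-(a + b)) * c.s b * c.t a = c.s (a + b) := by
  simp only [c.t_eq, c.s_eq, c.em_mul]
  refine c.em_congr ?_ (by push_cast; ring)
  simp only [D_apply, map_sub, map_zero, T_T, add_zero]
  ring_nf
  simp [T_zero]

/-- The target: if `N a = N (2 - a) = 1` then `2 σ⁻³ a - 1` has norm one. -/
theorem target {a b : c.U} (hab : c.ψ a + c.ψ b = 2) :
    (2 * c.ψ (c.σ (-3) a) - 1) ^ geomNat p q = 1 := by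
  set μ := c.ψ (c.σ (-3) a)
  set W := c.σ (-2) (a⁻¹ * b)
  have h5 := c.five
  have hsmall : ∀ m : ℕ, 0 < m → m < 5 → (m : F) ≠ 0 := fun m hm hm5 e => by
    have := Nat.le_of_dvd hm ((CharP.cast_eq_zero_iff F p m).mp e); omega
  have hW : (3 : F) - c.ψ W ≠ 0 := fun e => by
    have hW1 : W = 1 := c.eq_one_of_ψ_int (z := 3) (by rw [← sub_eq_zero.mp e]; norm_num)
    rw [hW1, map_one] at e
    exact hsmall 2 two_pos (by norm_num) (by push_cast; linear_combination e)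
  obtain ⟨k, L, hk, hL⟩ := c.exists_class hW
  -- the relation, for any admissible triple
  have rel : ∀ a b L : c.U, c.ψ a + c.ψ b = 2 → 3 - c.ψ (c.σ (-2) (a⁻¹ * b)) = (k : F) * c.ψ L →
      c.el (1 - 2 * c.ψ (c.σ (-3) a)) (c.σ (-3) a * c.σ (-1) L) * (c.t (-1) * c.s k * c.t (-1)) *
        c.el (c.ψ (c.σ 1 (L⁻¹ * c.σ (-2) (a⁻¹ * b))) * (2 - c.ψ (c.σ (-1) b⁻¹) * 3))
          (c.σ 1 (L⁻¹ * c.σ (-2) (a⁻¹ * b)) * c.σ (-1) b⁻¹) = c.t (-2) := by
    intro a b L hab hL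
    have hR : (a : G) * c.s 1 * (a⁻¹ * b : c.U) * c.s 1 * (b⁻¹ : c.U) = c.s 2 := by
      rw [show (a : G) * c.s 1 * (a⁻¹ * b : c.U) * c.s 1 * (b⁻¹ : c.U) =
        ((a : G) * c.s 1 * (a : G)⁻¹) * ((b : G) * c.s 1 * (b : G)⁻¹) by
          simp only [Subgroup.coe_mul, Subgroup.coe_inv]; group, s, c.conj_tr, c.conj_tr, ← c.tr_add, s]
      push_cast
      rw [mul_one, mul_one, hab]
    have b1 : c.s 1 = c.t 3 * c.s (-2) * c.t (-1) * c.s 3 * c.t (-2) := by
      have := c.braid (-2) 3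
      norm_num at this
      exact this.symm
    have b2 : c.s 1 = c.t 2 * c.s (-1) * c.t (-1) * c.s 2 * c.t (-1) := by
      have := c.braid (-1) 2
      norm_num at this
      exact this.symm
    have b3 : c.s 2 = c.t 3 * c.s (-1) * c.t (-2) * c.s 3 * c.t (-1) := by
      have := c.braid (-1) 3
      norm_num at this
      exact this.symm
    have hh : (L : G) * c.s k * (L⁻¹ * c.σ (-2) (a⁻¹ * b) : c.U) = c.s 3 * c.σ (-2) (a⁻¹ * b) * c.s (-1) := by
      rw [c.coe_U L, c.coe_U (L⁻¹ * _), c.coe_U (c.σ (-2) (a⁻¹ * b)), c.s_el, c.s_el, c.s_el, c.el_mul, c.el_mul,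
        c.el_mul, c.el_mul]
      simp only [map_one, one_mul, mul_one, add_zero, mul_zero, zero_add, mul_inv_cancel_left]
      congr 1
      push_cast
      linear_combination -hL
    have el1 : c.el (1 - 2 * c.ψ (c.σ (-3) a)) (c.σ (-3) a * c.σ (-1) L) =
        c.s 1 * c.σ (-3) a * c.s (-2) * c.σ (-1) L := by
      rw [c.coe_U (c.σ (-3) a), c.coe_U (c.σ (-1) L), c.s_el, c.s_el, c.el_mul, c.el_mul, c.el_mul]
      simp only [map_one, one_mul, mul_one, add_zero, mul_zero]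
      congr 1
      push_cast
      ring
    have el2 : c.el (c.ψ (c.σ 1 (L⁻¹ * c.σ (-2) (a⁻¹ * b))) * (2 - c.ψ (c.σ (-1) b⁻¹) * 3))
          (c.σ 1 (L⁻¹ * c.σ (-2) (a⁻¹ * b)) * c.σ (-1) b⁻¹) =
        (c.σ 1 (L⁻¹ * c.σ (-2) (a⁻¹ * b)) : G) * c.s 2 * c.σ (-1) b⁻¹ * c.s (-3) := by
      rw [c.coe_U (c.σ 1 _), c.coe_U (c.σ (-1) b⁻¹), c.s_el, c.s_el, c.el_mul, c.el_mul, c.el_mul]
      simp only [map_one, map_mul, one_mul, mul_one, add_zero, mul_zero, zero_add]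
      congr 1
      push_cast
      ring
    rw [el1, el2]
    rw [c.coe_σ (-1) L, c.coe_σ 1 (L⁻¹ * _)]
    -- rewrite the first relation
    have hR' : (a : G) * (c.t 3 * c.s (-2) * c.t (-1) * c.s 3 * c.t (-2)) * (a⁻¹ * b : c.U) *
        (c.t 2 * c.s (-1) * c.t (-1) * c.s 2 * c.t (-1)) * (b⁻¹ : c.U) =
          c.t 3 * c.s (-1) * c.t (-2) * c.s 3 * c.t (-1) := by rw [← b1, ← b2, ← b3, hR]
    have key : (c.σ (-3) a : G) * c.s (-2) * c.t (-1) *
        (c.s 3 * c.σ (-2) (a⁻¹ * b) * c.s (-1)) * c.t (-1) * c.s 2 * c.σ (-1) b⁻¹ =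
          c.s (-1) * c.t (-2) * c.s 3 := by
      have := congrArg (fun g => (c.t 3)⁻¹ * g * (c.t (-1))⁻¹) hR'
      rw [c.coe_σ, c.coe_σ, c.coe_σ]
      simp only [show c.t 2 = (c.t (-2))⁻¹ by rw [← c.t_neg]; rfl, show c.t (-3) = (c.t 3)⁻¹ from c.t_neg 3] at this ⊢
      rw [show c.s (-1) * c.t (-2) * c.s 3 =
        (c.t 3)⁻¹ * (c.t 3 * c.s (-1) * c.t (-2) * c.s 3 * c.t (-1)) * (c.t (-1))⁻¹ by group, ← this]
      group
    rw [← hh] at key
    have e3 : c.s (-2) * c.t (-1) = c.s (-2) * c.t (-1) := rfl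
    have h1 : c.t 1 = (c.t (-1))⁻¹ := by rw [← c.t_neg]; rfl
    calc _ = c.s 1 * ((c.σ (-3) a : G) * c.s (-2) * c.t (-1) *
          ((L : G) * c.s k * (L⁻¹ * c.σ (-2) (a⁻¹ * b) : c.U)) * c.t (-1) * c.s 2 * c.σ (-1) b⁻¹) * c.s (-3) := by
            rw [h1]; group
      _ = _ := by rw [key, c.s_neg 1, c.s_neg 3]; group
  set u₁ := c.σ (-3) a * c.σ (-1) L
  set v₂ := c.ψ (c.σ 1 (L⁻¹ * W)) * (2 - c.ψ (c.σ (-1) b⁻¹) * 3)
  set u₂ := c.σ 1 (L⁻¹ * W) * c.σ (-1) b⁻¹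
  set x : c.A := c.D (-1) c.yA + c.T (-1 + k) (c.D (-1) c.yA)
  have hg : c.t (-1) * c.s k * c.t (-1) = c.em x (-1 + k + -1) := by
    rw [c.t_eq, c.s_eq, c.em_mul, c.em_mul]; simp [x]
  have h2 : ((-2 : ℤ) : F) ≠ 0 := by
    push_cast; exact neg_ne_zero.mpr (by have := hsmall 2 two_pos (by norm_num); exact_mod_cast this)
  have hxt := c.D_yA_ne h2
  have h0 : c.el (1 - 2 * μ) u₁ * (c.t (-1) * c.s k * c.t (-1)) * c.el v₂ u₂ = c.t (-2) := rel a b L hab hL
  have hx : x ≠ 0 := fun e => by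
    refine hxt (c.em_mem_H (z := -2) ?_)
    rw [← c.t_eq, ← h0, hg, e, ← c.s_eq]
    exact mul_mem (mul_mem (c.el_mem _ _) (c.s_mem _)) (c.el_mem _ _)
  have htw : c.Twin (c.em x (-1 + k + -1)) (c.em (c.D (-2) c.yA) (-2)) (1 - 2 * μ) u₁ v₂ u₂ := fun i => by
    have := rel (a ^ p ^ i) (b ^ p ^ i) (L ^ p ^ i)
      (by have e := congrArg (c.Φ i) hab
          rwa [map_add, map_ofNat, c.Φ_ψ, c.Φ_ψ] at e)
      (by have e := congrArg (c.Φ i) hL
          rw [map_sub, map_ofNat, map_mul, map_intCast, c.Φ_ψ, c.Φ_ψ] at e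
          rwa [← inv_pow, ← Commute.mul_pow (c.U_comm _ _), map_pow])
    rw [← hg, ← c.t_eq, ← this]
    have hP : ∀ x y : c.U, x ^ p ^ i * y ^ p ^ i = (x * y) ^ p ^ i := fun x y =>
      (Commute.mul_pow (c.U_comm x y) _).symm
    have hσ : ∀ (z : ℤ) (x : c.U), c.σ z (x ^ p ^ i) = (c.σ z x) ^ p ^ i := fun z x => map_pow (c.σ z) x _
    simp only [← inv_pow, hP, hσ]
    simp only [μ, u₁, v₂, u₂, W, map_sub, map_mul (c.Φ i), map_ofNat, map_one, c.Φ_ψ]
  obtain ⟨i, j, hij⟩ := Sim.symm c (c.collapse hx hxt htw)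
  rw [← hg, ← c.t_eq] at hij
  -- the first flank lies in `U`
  have hflank : (1 - 2 * μ) + c.ψ u₁ * (i : F) = 0 := by
    refine c.t_inter h2 (m := u₁ * 1) ?_
    rw [← c.el_mul, ← c.s_el]
    refine c.mem_Dg.mpr ⟨mul_mem (c.el_mem _ _) (c.s_mem i), ?_⟩
    rw [show (c.t (-2))⁻¹ * (c.el (1 - 2 * μ) u₁ * c.s i) * c.t (-2) = (c.s j * c.el v₂ u₂)⁻¹ by
      conv_lhs => enter [1, 1]; rw [← h0, hij]
      group]
    exact inv_mem (mul_mem (c.s_mem j) (c.el_mem _ _))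
  have hi : (i : F) ≠ 0 := fun e => by
    rw [e, mul_zero, add_zero] at hflank
    have h2μ : 2 * μ = 1 := by linear_combination -hflank
    have hμp : μ ^ p = μ := by
      have h2p : ((2 : ℤ) : F) ^ p = ((2 : ℤ) : F) := c.intCast_pow 2
      push_cast at h2p
      refine mul_left_cancel₀ (show (2 : F) ≠ 0 by have := hsmall 2 two_pos (by norm_num); exact_mod_cast this) ?_
      conv_lhs => rw [← h2p, ← mul_pow, h2μ, one_pow]
      exact h2μ.symm
    have h1 : μ = 1 := by rw [show μ = c.ψ (c.σ (-3) a) from rfl, c.eq_one_of_ψ_pow hμp, map_one]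
    rw [h1] at h2μ
    exact hsmall 1 one_pos (by norm_num) (by push_cast; linear_combination h2μ)
  -- exponents
  have hij' := hij
  rw [hg, c.t_eq, c.s_eq, c.s_eq, c.em_mul, c.em_mul] at hij'
  obtain ⟨hxij, hzij⟩ := c.em_inj hij'
  push_cast at hzij
  have hrel : c.t 2 = c.s j * c.t 1 * c.s (-k) * c.t 1 * c.s i := by
    have := congrArg (fun g => g⁻¹) hij
    simp only [mul_inv_rev, ← c.t_neg, ← c.s_neg, neg_neg] at this
    rw [show c.s j * c.t 1 * c.s (-k) * c.t 1 * c.s i = c.s j * (c.t 1 * (c.s (-k) * c.t 1)) * c.s i by group, this,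
      c.s_neg, c.s_neg]
    group
  have hstd : c.t 2 = c.s 1 * c.t 1 * c.s (-2) * c.t 1 * c.s 1 := by
    simp only [c.t_eq, c.s_eq, c.em_mul]
    refine c.em_congr ?_ (by push_cast; ring)
    simp only [D_apply, map_sub, map_zero, T_T, add_zero, zero_add]
    ring_nf
    simp [T_zero]
  obtain ⟨u, hu⟩ := c.exists_ne_one
  obtain ⟨d, w, hd, hdw⟩ := c.exists_class (v := 1 - c.ψ u)
    (sub_ne_zero.mpr fun e => hu (c.ψ_inj (by rw [map_one]; exact e.symm)))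
  obtain ⟨d', w', hd', hdw'⟩ := c.exists_class (v := 1 - c.ψ (c.σ 2 u))
    (sub_ne_zero.mpr fun e => hu (c.σ_inj 2 (c.ψ_inj (by rw [map_one, map_one]; exact e.symm))))
  have f1 := c.family (by simp) hstd hd hdw hdw'
  have f2 := c.family hi hrel hd hdw hdw'
  push_cast at f1 f2
  have hjeq : (j : F) = (i : F) := by
    rw [show (d' : F) = (d : F) by linear_combination -f1] at f2
    exact (mul_right_cancel₀ hd f2).symm
  have hkeq : (k : F) = ((2 * i : ℤ) : F) := by push_cast; linear_combination hzij + hjeq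
  -- the polynomial identity
  rw [map_zero, add_zero, zero_add] at hxij
  simp only [x, c.T_congr (a := -1 + k) (b := -1 + 2 * i) (by push_cast at hkeq ⊢; rw [hkeq])] at hxij
  have hfac : c.D (i - 1) (c.D i (c.D (-1) c.yA)) = 0 := by
    rw [← sub_self (c.T i (c.D (-2) c.yA))]
    conv_rhs => enter [1]; rw [← hxij]
    simp only [D_apply, map_sub, T_T]
    ring_nf
    abel
  have hi1 : (i : F) = 1 := by
    by_contra hne
    exact c.D_yA_ne (by simp) (c.D_inj hi (c.D_inj (by push_cast; exact sub_ne_zero.mpr hne) hfac))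
  rw [hi1, mul_one] at hflank
  rw [show 2 * μ - 1 = c.ψ u₁ by linear_combination -hflank]
  exact c.ψ_pow _

/-- Rescaling the field isomorphism by a nonzero element of the prime field. -/
def scale (k : ℤ) (hk : (k : F) ≠ 0) : Cfg p q G F where
  fi := c.fi.comp (AddMonoidHom.toMultiplicative (AddMonoidHom.mulLeft (k : F)))
  fi_inj := c.fi_inj.comp fun a b h => Multiplicative.toAdd.injective (mul_left_cancel₀ hk (Multiplicative.ofAdd.injective h))
  U := c.U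
  ψ := c.ψ
  ψ_inj := c.ψ_inj
  conj u v := by
    refine (c.conj u ((k : F) * v)).trans ?_
    show c.fi _ = c.fi (Multiplicative.ofAdd ((k : F) * (c.ψ u * v)))
    rw [mul_left_comm]
  card_U := c.card_U
  card_F := c.card_F
  cop_n := c.cop_n
  five := c.five
  hq := c.hq
  ne := c.ne
  Q := c.Q
  comm := c.comm
  cop := c.cop
  nQ := by
    show c.tr ((k : F) * 1) ∈ _
    rw [mul_one]; exact c.s_normQ k
  y := c.y
  hy := c.hy
  nt := by
    show c.y * c.tr ((k : F) * 1) * c.y⁻¹ ∈ _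
    rw [mul_one]; exact c.t_normU k
  fixed x hx h := by
    replace h : c.tr ((k : F) * 1) * x = x * c.tr ((k : F) * 1) := h
    rw [mul_one] at h
    replace h : c.s k * x = x * c.s k := h
    have : c.D k (Additive.ofMul ⟨x, hx⟩) = 0 := by
      rw [D_apply, sub_eq_zero, ← c.qv_inj, qv_T]
      show x = c.s k * x * (c.s k)⁻¹
      rw [h, mul_inv_cancel_right]
    exact c.qv_inj.mpr (c.D_inj hk this)

theorem E_inv {a : F} (ha : a ^ geomNat p q = 1) (ha2 : (2 - a) ^ geomNat p q = 1) :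
    (2 * a - 1) ^ geomNat p q = 1 := by
  classical
  haveI := c.finite_U
  haveI := Fintype.ofFinite c.U
  set n := geomNat p q
  set E : Finset c.U := Finset.univ.filter fun u => (2 - c.ψ u) ^ n = 1
  set E' : Finset c.U := Finset.univ.filter fun u => (2 * c.ψ u - 1) ^ n = 1
  have hcard : E'.card = E.card := by
    refine Finset.card_bij' (fun u _ => u⁻¹) (fun u _ => u⁻¹) (fun u hu => ?_) (fun u hu => ?_)
      (fun u _ => inv_inv u) (fun u _ => inv_inv u)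
    all_goals
      simp only [E, E', Finset.mem_filter, Finset.mem_univ, true_and] at hu ⊢
      have hinv : c.ψ u⁻¹ = (c.ψ u)⁻¹ := eq_inv_of_mul_eq_one_left (by rw [← map_mul, inv_mul_cancel, map_one])
      rw [hinv]
    · rw [show 2 - (c.ψ u)⁻¹ = (2 * c.ψ u - 1) * (c.ψ u)⁻¹ by field_simp [c.ψ_ne u], mul_pow, hu, inv_pow,
        c.ψ_pow, inv_one, one_mul]
    · rw [show 2 * (c.ψ u)⁻¹ - 1 = (2 - c.ψ u) * (c.ψ u)⁻¹ by field_simp [c.ψ_ne u], mul_pow, hu, inv_pow,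
        c.ψ_pow, inv_one, one_mul]
  have h5 := c.five
  have hsmall : ∀ m : ℕ, 0 < m → m < 5 → (m : F) ≠ 0 := fun m hm hm5 e => by
    have := Nat.le_of_dvd hm ((CharP.cast_eq_zero_iff F p m).mp e); omega
  have h3 : (3 : ZMod p) ≠ 0 := by
    intro e
    have := congrArg (ZMod.castHom (dvd_refl p) F) e
    rw [map_ofNat, map_zero] at this
    exact hsmall 3 (by norm_num) (by norm_num) (by exact_mod_cast this)
  have step : ∀ j : ℤ, (j : F) ≠ 0 → E.image (c.σ j) = E' := by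
    intro j hj
    refine Finset.eq_of_subset_of_card_le (fun v hv => ?_) (by
      rw [hcard, Finset.card_image_of_injective _ (c.σ_inj j)])
    obtain ⟨u, hu, rfl⟩ := Finset.mem_image.mp hv
    simp only [E, E', Finset.mem_filter, Finset.mem_univ, true_and] at hu ⊢
    obtain ⟨b, hb⟩ := c.exists_ψ hu
    obtain ⟨k, hk⟩ : ∃ k : ℤ, ((-3 * k : ℤ) : F) = (j : F) := by
      refine ⟨(((-(j : ZMod p)) / 3).val : ℤ), ?_⟩
      have := congrArg (ZMod.castHom (dvd_refl p) F) (div_mul_cancel₀ (-(j : ZMod p)) h3)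
      rw [map_mul, map_ofNat, map_neg, map_intCast] at this
      push_cast
      have hv : ((((-(j : ZMod p)) / 3).val : ℕ) : F) = ZMod.castHom (dvd_refl p) F (-(j : ZMod p) / 3) := by
        conv_rhs => rw [← ZMod.natCast_zmod_val (-(j : ZMod p) / 3)]
        rw [map_natCast]
      rw [hv]
      linear_combination -this
    have hk0 : (k : F) ≠ 0 := fun e => hj (by rw [← hk]; push_cast; rw [e, mul_zero])
    have := (c.scale k hk0).target (a := u) (b := b)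
      (show c.ψ u + c.ψ b = 2 by rw [hb]; ring)
    rwa [show (c.scale k hk0).ψ ((c.scale k hk0).σ (-3) u) = c.ψ (c.σ j u) from congrArg c.ψ (Subtype.ext (by
      show c.y * c.tr ((k : F) * ((-3 : ℤ) : F)) * c.y⁻¹ * u * (c.y * c.tr ((k : F) * ((-3 : ℤ) : F)) * c.y⁻¹)⁻¹ =
        c.y * c.tr ((j : ℤ) : F) * c.y⁻¹ * u * (c.y * c.tr ((j : ℤ) : F) * c.y⁻¹)⁻¹
      rw [show (k : F) * ((-3 : ℤ) : F) = (j : F) by rw [← hk]; push_cast; ring]))] at this
  have h1 := step 1 (by simp)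
  have h2 := step 2 (by have := hsmall 2 two_pos (by norm_num); exact_mod_cast this)
  have hEE : E' = E := by
    have h : E.image (c.σ 1) = (E.image (c.σ 1)).image (c.σ 1) := by
      rw [Finset.image_image]
      conv_lhs => rw [h1, ← h2]
      refine Finset.image_congr fun u _ => ?_
      simp [σ_σ]
    exact h1.symm.trans (Finset.image_injective (c.σ_inj 1) h).symm
  obtain ⟨u, hu⟩ := c.exists_ψ ha
  have hmem : u ∈ E := Finset.mem_filter.mpr ⟨Finset.mem_univ _, by rw [hu]; exact ha2⟩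
  rw [← hEE] at hmem
  simpa [E', hu] using hmem

end Cfsg.Lib.Local.AppC.Cfg
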